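import Groth.Agent.Abh84.CoverScheme

/-!
# Absolute Abhyankar lemma
-/

set_option autoImplicit false
universe u

open IsLocalRing TensorProduct CategoryTheory AlgebraicGeometry Limits Opposite

namespace Groth.Agent.Abh84

open Groth.Agent.KummerAlg84

theorem exists_extension_abstract {A : Type u} [CommRing A] [IsRegularLocalRing A] [IsDomain A] {r : ℕ}
    {f : Fin r → A} [∀ i, (Ideal.span {f i}).IsPrime] (hf : IsParams f)
    (V : FEt.Cat ((SGA1.specBasicOpen A (∏ i, f i)) : Scheme.{u}))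
    (htame : SGA1.IsTameAlong f (((V.hom ≫ ((SGA1.specBasicOpen A (∏ i, f i))).ι).appTop).hom.comp
      (Scheme.ΓSpecIso (CommRingCat.of A)).inv.hom)) :
    ∃ n : Fin r → ℕ, (∀ i, 1 ≤ n i) ∧ (∀ i, IsUnit (n i : A)) ∧
      ∀ (K : Type u) [CommRing K] [IsRegularLocalRing K] [IsDomain K] [Algebra A K] [Module.Finite A K]
        (_ : Function.Injective (algebraMap A K)) (T : Fin r → K)
        (_ : ∀ i, T i ^ n i = algebraMap A K (f i)),
        ∃ (C : Type u) (_ : CommRing C) (_ : Algebra K C) (_ : Module.Finite K C) (_ : Algebra.Etale K C),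
          Nonempty ((FEt.restrict ((Spec.map (CommRingCat.ofHom (algebraMap A K))) ⁻¹ᵁ
            (SGA1.specBasicOpen A (∏ i, f i))).ι).obj ((FEt83.specFunctor K).obj (op (CommAlgCat.FiniteEtale.of K C))) ≅
            (FEt.restrict ((Spec.map (CommRingCat.ofHom (algebraMap A K))) ∣_ (SGA1.specBasicOpen A (∏ i, f i)))).obj V) := by
  let F := ∏ i, f i
  have hF : F ≠ 0 := Finset.prod_ne_zero_iff.mpr fun i _ => hf.ne_zero i
  let AF := Localization.Away F
  obtain ⟨j, hj, iB, hfin, het, hcomp, ⟨iV⟩⟩ := exists_affine_cover F AF V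
  let : Algebra A Γ(V.left, ⊤) := ((algebraMap AF Γ(V.left, ⊤)).comp (algebraMap A AF)).toAlgebra
  have : IsScalarTower A AF Γ(V.left, ⊤) :=
    IsScalarTower.of_algebraMap_eq (R := A) (S := AF) (A := Γ(V.left, ⊤)) fun _ => rfl
  have htame' : SGA1.IsTameAlong f (algebraMap A Γ(V.left, ⊤)) := by
    show SGA1.IsTameAlong f ((algebraMap AF Γ(V.left, ⊤)).comp (algebraMap A AF))
    rw [hcomp]
    exact htame
  obtain ⟨n, hn, hu, hdiv⟩ := exists_unit_exponents (f := f) AF Γ(V.left, ⊤) hf htame'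
  refine ⟨n, hn, hu, ?_⟩
  intro K _ _ _ _ _ hinjK T hT
  let S := FractionRing K
  have hFK : algebraMap A K F ≠ 0 := (map_ne_zero_iff _ hinjK).mpr hF
  let aS : AF →+* S := IsLocalization.Away.lift F (g := (algebraMap K S).comp (algebraMap A K))
    (IsUnit.mk0 _ ((map_ne_zero_iff _ (IsFractionRing.injective K S)).mpr hFK))
  let : Algebra AF S := aS.toAlgebra
  have hS : ∀ a, algebraMap AF S (algebraMap A AF a) = algebraMap K S (algebraMap A K a) :=
    fun a => IsLocalization.Away.lift_eq F _ a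
  obtain ⟨C, iC, iCK, hCfin, hCet, ⟨e⟩⟩ :=
    exists_model AF Γ(V.left, ⊤) hf hn (fun i => (hu i).ne_zero) hdiv hinjK T hT S hS
  exact ⟨C, iC, iCK, hCfin, hCet, nonempty_restrict_iso F hF hinjK AF S hS j hj V _ iV C e⟩

end Groth.Agent.Abh84
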