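import Groth.Agent.Abh84.KummerReg
import Groth.Agent.EtRam26.AbhIff
import Groth.Agent.EtRam26.Unr

/-!
# Valuations of Kummer fields at the parameters
-/

set_option autoImplicit false
universe u

open IsLocalRing Polynomial

namespace Groth.Agent.Abh84

/-- The local ring at a prime element is a discrete valuation ring. -/
theorem isDVR_localization {A : Type u} [CommRing A] [IsDomain A] [IsNoetherianRing A] {t : A} (ht : t ≠ 0)
    [(Ideal.span {t}).IsPrime] :
    ∃ (_ : IsDomain (Localization.AtPrime (Ideal.span {t})))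
      (_ : IsDiscreteValuationRing (Localization.AtPrime (Ideal.span {t}))),
      maximalIdeal (Localization.AtPrime (Ideal.span {t})) = Ideal.span {algebraMap A _ t} ∧
        Function.Injective (algebraMap A (Localization.AtPrime (Ideal.span {t}))) := by
  let P := Ideal.span {t}
  let A' := Localization.AtPrime P
  have hle : P.primeCompl ≤ nonZeroDivisors A := P.primeCompl_le_nonZeroDivisors
  have : IsDomain A' := IsLocalization.isDomain_of_le_nonZeroDivisors A' hle
  have hπ : maximalIdeal A' = Ideal.span {algebraMap A A' t} := by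
    rw [← Localization.AtPrime.map_eq_maximalIdeal, Ideal.map_span, Set.image_singleton]
  have hinj : Function.Injective (algebraMap A A') := IsLocalization.injective A' hle
  have : IsNoetherianRing A' := IsLocalization.isNoetherianRing P.primeCompl A' inferInstance
  have hnf : ¬ IsField A' := fun h => (map_ne_zero_iff _ hinj).mpr ht (by
    have := IsLocalRing.isField_iff_maximalIdeal_eq.mp h
    rw [hπ] at this
    exact Ideal.span_singleton_eq_bot.mp this)
  exact ⟨inferInstance, ((IsDiscreteValuationRing.TFAE A' hnf).out 0 4).mpr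
    (show (maximalIdeal A').IsPrincipal from ⟨⟨_, hπ⟩⟩), hπ, hinj⟩

set_option backward.isDefEq.respectTransparency.types false in
/-- In a field generated by roots of the parameters, the index at `(f_i)` is `n_i`. -/
theorem kummer_ram {A : Type u} [CommRing A] [IsRegularLocalRing A] [IsDomain A] {r : ℕ} {f : Fin r → A}
    (hf : IsParams f) {n : Fin r → ℕ} (hn : ∀ i, 1 ≤ n i) (hu : ∀ i, IsUnit ((n i : ℕ) : A))
    {L : Type u} [Field L] (g : A →+* L) (hg : Function.Injective g) (z : Fin r → L)
    (hz : ∀ j, z j ^ n j = g (f j)) (hgen : Subfield.closure (Set.range g ∪ Set.range z) = ⊤)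
    (i : Fin r) [(Ideal.span {f i}).IsPrime] (g₁ : Localization.AtPrime (Ideal.span {f i}) →+* L)
    (hg₁ : g₁.comp (algebraMap A _) = g)
    (V : ValuationSubring L) (hV : EtRam.Dominates _ g₁ V) :
    IsDiscreteValuationRing V ∧ EtRam26.RamHom (g₁.codRestrict V hV.1) (n i) := by
  open Groth.Agent.EtRam26 in
  classical
  let P := Ideal.span {f i}
  let A' := Localization.AtPrime P
  obtain ⟨hdom, hdvr, hπ, hinjA⟩ := isDVR_localization (hf.ne_zero i)
  let π : A' := algebraMap A A' (f i)
  have hg' : ∀ a, g₁ (algebraMap A A' a) = g a := RingHom.congr_fun hg₁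
  let ψ : AdjoinRoot (X ^ n i - Polynomial.C π : A'[X]) →+* L :=
    AdjoinRoot.lift g₁ (z i) (by simp [π, hg', hz])
  have hψof : ψ.comp (AdjoinRoot.of _) = g₁ := AdjoinRoot.lift_comp_of _
  obtain ⟨hdom', hdvr', hmax, hof⟩ := eisenstein_root hπ (hn i)
  have := hof.1
  have hzne : z i ≠ 0 := fun h0 => hf.ne_zero i (hg (by
    rw [map_zero, ← hz, h0, zero_pow (Nat.one_le_iff_ne_zero.mp (hn i))]))
  have hψ : Function.Injective ψ := by
    rw [RingHom.injective_iff_ker_eq_bot]
    by_contra hne
    have hp : (RingHom.ker ψ).IsPrime := RingHom.ker_isPrime ψ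
    have hroot : AdjoinRoot.root _ ∈ RingHom.ker ψ :=
      (IsLocalRing.eq_maximalIdeal (hp.isMaximal hne)).ge (hmax.ge (Ideal.mem_span_singleton_self _))
    exact hzne (by simpa [ψ] using hroot)
  have hW : EtRam.Dominates (AdjoinRoot (X ^ n i - Polynomial.C π : A'[X])) ψ V := by
    refine ⟨fun x => ?_, fun x hx => ?_⟩
    · have hint : Algebra.IsIntegral A' (AdjoinRoot (X ^ n i - Polynomial.C π : A'[X])) := by
        have := (monic_X_pow_sub_C π (Nat.one_le_iff_ne_zero.mp (hn i))).finite_adjoinRoot
        infer_instance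
      exact Ram24.mem_of_isIntegral (B := A') ψ V (fun a => by
        show ψ (AdjoinRoot.of _ a) ∈ V
        rw [← RingHom.comp_apply, hψof]
        exact hV.1 a) x
    · rw [hmax, Ideal.mem_span_singleton] at hx
      obtain ⟨c, rfl⟩ := hx
      have hint : Algebra.IsIntegral A' (AdjoinRoot (X ^ n i - Polynomial.C π : A'[X])) := by
        have := (monic_X_pow_sub_C π (Nat.one_le_iff_ne_zero.mp (hn i))).finite_adjoinRoot
        infer_instance
      have hc : ψ c ∈ V := Ram24.mem_of_isIntegral (B := A') ψ V (fun a => by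
        show ψ (AdjoinRoot.of _ a) ∈ V
        rw [← RingHom.comp_apply, hψof]
        exact hV.1 a) c
      have hlt : V.valuation (g₁ π) < 1 := hV.2 π (hπ.ge (Ideal.mem_span_singleton_self _))
      have hroot : V.valuation (z i) < 1 := by
        rw [show g₁ π = z i ^ n i from (hg' (f i)).trans (hz i).symm, map_pow] at hlt
        exact (pow_lt_one_iff (Nat.one_le_iff_ne_zero.mp (hn i))).mp hlt
      rw [map_mul, map_mul, show ψ (AdjoinRoot.root _) = z i by simp [ψ]]
      exact mul_lt_one_of_lt_of_le hroot ((V.valuation_le_one_iff _).mpr hc)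
  let J := {j : Fin r // f j ∉ P}
  let aJ : J → A' := fun j => algebraMap A A' (f j.1)
  let D := MvPolynomial J A' ⧸ Groth.Agent.KummerAlg84.ker aJ (fun j => n j.1)
  have hnJ : ∀ j : J, 1 ≤ n j.1 := fun j => hn _
  have : Module.Finite A' D := Groth.Agent.KummerAlg84.finite hnJ
  have : Algebra.FormallyUnramified A' D := by
    have hF : ∀ j : J, aJ j ∣ (1 : A') := fun j =>
      isUnit_iff_dvd_one.mp (IsLocalization.map_units A' (⟨f j.1, j.2⟩ : P.primeCompl))
    have he := Groth.Agent.KummerAlg84.etale_away (a := aJ) hnJ (fun j => by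
      rw [← map_natCast (algebraMap A A')]; exact (hu j.1).map _) 1 hF
    have hu1 : IsUnit (algebraMap A' D (1 : A')) := by rw [map_one]; exact isUnit_one
    have e : D ≃ₐ[D] Localization.Away (algebraMap A' D (1 : A')) := IsLocalization.atUnit D _ _ hu1
    exact Algebra.FormallyUnramified.of_equiv (e.restrictScalars A').symm
  let kD : D →+* L := Ideal.Quotient.lift _ (MvPolynomial.eval₂Hom g₁ (fun j : J => z j.1)) (fun x hx => by
    refine RingHom.mem_ker.mp (Ideal.span_le.mpr ?_ hx)
    rintro _ ⟨j, rfl⟩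
    simp [aJ, hg', hz])
  have hother : ∀ j, f j ∈ P → j = i := by
    intro j hjP
    by_contra hji
    obtain ⟨c, hc⟩ := Ideal.mem_span_singleton'.mp hjP
    have h0 := congrArg ((maximalIdeal A).toCotangent) (Subtype.ext hc.symm : (⟨f j, hf.mem j⟩ : maximalIdeal A) = c • ⟨f i, hf.mem i⟩)
    rw [map_smul, ← IsScalarTower.algebraMap_smul (ResidueField A) c] at h0
    have h1 := hf.li (a₁ := Finsupp.single j 1) (a₂ := Finsupp.single i (algebraMap A (ResidueField A) c))
      (by simpa [Finsupp.linearCombination_single] using h0)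
    have h2 := congrArg (fun v : Fin r →₀ ResidueField A => v j) h1
    simp [Finsupp.single_eq_of_ne hji] at h2
  obtain ⟨hdvrV, hr⟩ : IsDiscreteValuationRing V ∧ RamHom (ψ.codRestrict V hW.1) 1 := by
    refine ramHom_one_of_baseChange (A := A') (D := D) (AdjoinRoot.of _) ψ kD ?_ hψ
      (Set.range g ∪ {z i}) ?_ ?_ V hW
    · refine RingHom.ext fun a => ?_
      show MvPolynomial.eval₂Hom g₁ (fun j : J => z j.1) (MvPolynomial.C a) = _
      rw [MvPolynomial.eval₂Hom_C]
      exact (RingHom.congr_fun hψof a).symm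
    · rintro y (⟨a, rfl⟩ | rfl)
      · refine ⟨AdjoinRoot.of _ (algebraMap A A' a), 1, by simp, ?_⟩
        simp [ψ, hg']
      · exact ⟨AdjoinRoot.root _, 1, by simp, by simp [ψ]⟩
    · rw [eq_top_iff, ← hgen, Subfield.closure_le]
      rintro x (hx | ⟨j, rfl⟩)
      · exact Subfield.subset_closure (Or.inl (Or.inl hx))
      · by_cases hj : f j ∈ P
        · rw [hother j hj]
          exact Subfield.subset_closure (Or.inl (Or.inr rfl))
        · refine Subfield.subset_closure (Or.inr ⟨Ideal.Quotient.mk _ (MvPolynomial.X ⟨j, hj⟩), ?_⟩)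
          exact MvPolynomial.eval₂Hom_X' g₁ (fun j : J => z j.1) ⟨j, hj⟩
  refine ⟨hdvrV, ?_⟩
  have hc : g₁.codRestrict V hV.1 = (ψ.codRestrict V hW.1).comp (AdjoinRoot.of _) :=
    RingHom.ext fun a => Subtype.ext (RingHom.congr_fun hψof a).symm
  have h2 := hof.comp hr
  rw [one_mul] at h2
  rw [hc]
  exact h2

end Groth.Agent.Abh84
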