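import Groth.Agent.EtRam26.Hom
import Mathlib.NumberTheory.RamificationInertia.Basic
import Mathlib.FieldTheory.PurelyInseparable.Basic

/-!
# A degree `p` extension of DVRs with purely inseparable residue extension is not tame
-/

set_option autoImplicit false
universe u

open IsLocalRing

namespace Groth.Agent.Abh84

theorem ram_eq_prime {D S : Type u} [CommRing D] [IsDomain D] [IsDiscreteValuationRing D] [CommRing S]
    [IsDomain S] [IsDiscreteValuationRing S] [Algebra D S] [Module.Finite D S]
    (hinj : Function.Injective (algebraMap D S)) {p : ℕ} (hp : p.Prime) (hrank : Module.finrank D S = p)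
    (hres : ∀ s : S, ∃ d : D, s ^ p - algebraMap D S d ∈ maximalIdeal S)
    (hpD : (p : D) ∈ maximalIdeal D) {e : ℕ} (he : EtRam26.RamHom (algebraMap D S) e) : e = p := by
  classical
  have : FaithfulSMul D S := (faithfulSMul_iff_algebraMap_injective D S).mpr hinj
  obtain ⟨hloc, hsep, hmap⟩ := he
  have := EtRam26.sepHom_map_iff.mp hsep
  have hchar : CharP (ResidueField D) p := by
    refine (CharP.charP_iff_prime_eq_zero hp).mpr ?_
    rw [← map_natCast (residue D), residue_eq_zero_iff]
    exact hpD
  have : ExpChar (ResidueField D) p := ExpChar.prime hp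
  have : IsPurelyInseparable (ResidueField D) (ResidueField S) := by
    rw [isPurelyInseparable_iff_pow_mem (F := ResidueField D) p]
    intro x
    obtain ⟨s, rfl⟩ := residue_surjective x
    obtain ⟨d, hd⟩ := hres s
    refine ⟨1, residue D d, ?_⟩
    rw [pow_one, ← map_pow]
    show residue S (algebraMap D S d) = residue S (s ^ p)
    rw [← sub_eq_zero, ← map_sub, ← neg_sub (s ^ p), map_neg, neg_eq_zero, residue_eq_zero_iff]
    exact hd
  have hsurj := IsPurelyInseparable.surjective_algebraMap_of_isSeparable (ResidueField D) (ResidueField S)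
  let Q := FractionRing D
  let M := FractionRing S
  let := FractionRing.liftAlgebra D M
  have hfr : Module.finrank Q M = p := by rw [← hrank]; exact IsFractionRing.finrank_eq D Q S M
  have hsum := Ideal.sum_ramification_inertia (R := D) (S := S) (K := Q) (L := M)
    (p := maximalIdeal D) (IsDiscreteValuationRing.not_a_field D)
  have hlo : (maximalIdeal S).LiesOver (maximalIdeal D) := ⟨Eq.symm (((local_hom_TFAE (algebraMap D S)).out 0 4 : IsLocalHom (algebraMap D S) ↔ (maximalIdeal S).comap (algebraMap D S) = maximalIdeal D).mp hloc)⟩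
  have hset : IsDedekindDomain.primesOverFinset (maximalIdeal D) S = {maximalIdeal S} := by
    ext P
    rw [IsDedekindDomain.mem_primesOverFinset_iff (IsDiscreteValuationRing.not_a_field D), Finset.mem_singleton]
    constructor
    · rintro ⟨hP, hPl⟩
      have : P.IsMaximal := Ideal.IsMaximal.of_liesOver_isMaximal P (maximalIdeal D)
      exact IsLocalRing.eq_maximalIdeal this
    · rintro rfl
      exact ⟨inferInstance, hlo⟩
  rw [hset, Finset.sum_singleton, hfr, Ideal.ramificationIdx'_spec hmap.le (fun hle => ?_)] at hsum
  swap
  · have hlt : maximalIdeal S ^ (e + 1) < maximalIdeal S ^ e :=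
      Ideal.pow_right_strictAnti (maximalIdeal S) (IsDiscreteValuationRing.not_a_field S)
        (maximalIdeal.isMaximal S).ne_top (Nat.lt_succ_self e)
    exact absurd (hmap ▸ hle) (not_le_of_gt hlt)
  rw [← hsum]
  refine (mul_eq_left₀ ?_).mpr ?_ |>.symm
  · rintro rfl
    rw [zero_mul] at hsum
    exact hp.ne_zero hsum.symm
  rw [Ideal.inertiaDeg'_algebraMap]
  exact (LinearEquiv.ofBijective (Algebra.linearMap (ResidueField D) (ResidueField S))
    ⟨(algebraMap (ResidueField D) (ResidueField S)).injective, hsurj⟩).finrank_eq.symm.trans (Module.finrank_self _)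

end Groth.Agent.Abh84
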