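import Groth.Agent.Abh84.KummerReg
import Groth.Agent.Abh84.InsepTame
import Groth.Agent.EtRam26.Unr
import Groth.Agent.CAlg6.RegularNormal
import Mathlib.RingTheory.Algebraic.Integral
import Mathlib.FieldTheory.KummerPolynomial

/-!
# Raising an exponent by the residue characteristic is never tame over a prime containing it
-/

set_option autoImplicit false
universe u

open IsLocalRing Polynomial

namespace Groth.Agent.Abh84

open Groth.Agent.KummerAlg84

variable {R : Type u} [CommRing R] {r : ℕ} (f : Fin r → R) (n : Fin r → ℕ)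

/-- The map out of a Kummer algebra given by roots. -/
noncomputable def rootHom {M : Type*} [CommRing M] (g : R →+* M) (z : Fin r → M)
    (hz : ∀ j, z j ^ n j = g (f j)) : (MvPolynomial (Fin r) R ⧸ ker f n) →+* M :=
  Ideal.Quotient.lift _ (MvPolynomial.eval₂Hom g z) (fun x hx => by
    refine RingHom.mem_ker.mp (Ideal.span_le.mpr ?_ hx)
    rintro _ ⟨j, rfl⟩
    simp [hz])

theorem rootHom_algebraMap {M : Type*} [CommRing M] (g : R →+* M) (z : Fin r → M)
    (hz : ∀ j, z j ^ n j = g (f j)) (a : R) :
    rootHom f n g z hz (algebraMap R _ a) = g a :=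
  MvPolynomial.eval₂Hom_C g z a

theorem rootHom_T {M : Type*} [CommRing M] (g : R →+* M) (z : Fin r → M)
    (hz : ∀ j, z j ^ n j = g (f j)) (j : Fin r) : rootHom f n g z hz (T f n j) = z j :=
  MvPolynomial.eval₂Hom_X' g z j

variable [IsRegularLocalRing R] [IsDomain R] {f n}

theorem rootHom_injective {M : Type u} [Field M] (hf : IsParams f) (hn : ∀ i, 1 ≤ n i) (g : R →+* M)
    (hg : Function.Injective g) (z : Fin r → M) (hz : ∀ j, z j ^ n j = g (f j)) :
    Function.Injective (rootHom f n g z hz) := by
  obtain ⟨hK, -⟩ := isParams_T hf hn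
  have := CAlg1.isDomain_regular (MvPolynomial (Fin r) R ⧸ ker f n)
  have := KummerAlg84.isIntegral (a := f) hn
  rw [RingHom.injective_iff_ker_eq_bot]
  have : (RingHom.ker (rootHom f n g z hz)).IsPrime := RingHom.ker_isPrime _
  refine Ideal.eq_bot_of_comap_eq_bot (R := R) ((eq_bot_iff).mpr fun a ha => hg ?_)
  rw [map_zero, ← rootHom_algebraMap f n g z hz]
  exact ha

variable (f n) in
/-- The subfield generated by the roots. -/
def rootField {M : Type u} [Field M] (g : R →+* M) (z : Fin r → M) : Subfield M :=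
  Subfield.closure (Set.range g ∪ Set.range z)

theorem range_subset_rootField {M : Type u} [Field M] (g : R →+* M) (z : Fin r → M)
    (hz : ∀ j, z j ^ n j = g (f j)) (x : MvPolynomial (Fin r) R ⧸ ker f n) :
    rootHom f n g z hz x ∈ rootField g z := by
  obtain ⟨x, rfl⟩ := Ideal.Quotient.mk_surjective x
  show MvPolynomial.eval₂Hom g z x ∈ _
  induction x using MvPolynomial.induction_on with
  | C c => rw [MvPolynomial.eval₂Hom_C]; exact Subfield.subset_closure (Or.inl ⟨c, rfl⟩)
  | add x y hx hy => rw [map_add]; exact add_mem hx hy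
  | mul_X x j hx =>
    rw [map_mul, MvPolynomial.eval₂Hom_X']
    exact mul_mem hx (Subfield.subset_closure (Or.inr ⟨j, rfl⟩))

variable {n' : Fin r → ℕ} {i : Fin r} {p : ℕ}

/-- The degree of the `p`-th root step. -/
theorem finrank_step (hf : IsParams f) (hn' : ∀ j, 1 ≤ n' j) (hp : p.Prime) {M : Type u} [Field M]
    {Q : Type u} [Field Q] [Algebra Q M] (g : R →+* Q) (hg : Function.Injective g) (z' : Fin r → Q)
    (hz' : ∀ j, z' j ^ n' j = g (f j)) (hQ : rootField g z' = ⊤) (y : M)
    (hy : y ^ p = algebraMap Q M (z' i)) (hgen : Subfield.closure (Set.range (algebraMap Q M) ∪ {y}) = ⊤) :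
    Module.finrank Q M = p := by
  have hirr : Irreducible (X ^ p - C (z' i) : Q[X]) := by
    refine X_pow_sub_C_irreducible_of_prime hp fun b hb => ?_
    obtain ⟨a, c, hc, hac⟩ := EtRam26.frac_of_gen (rootHom f n' g z' hz') (Set.range g ∪ Set.range z') (by
      rintro x (⟨a, rfl⟩ | ⟨j, rfl⟩)
      · exact ⟨algebraMap R _ a, 1, by simp, by simp [rootHom_algebraMap]⟩
      · exact ⟨T f n' j, 1, by simp, by simp [rootHom_T]⟩) hQ b
    refine T_ne_pow hf hn' i _ (rootHom_injective hf hn' g hg z' hz') hp.two_le a c hc ?_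
    rw [rootHom_T, ← hb]
    congr 1
    rw [eq_comm, eq_div_iff hc, hac]
  have haev : aeval y (X ^ p - C (z' i) : Q[X]) = 0 := by simp [hy]
  have hint : IsIntegral Q y := ⟨_, monic_X_pow_sub_C _ hp.ne_zero, haev⟩
  have hmin : minpoly Q y = X ^ p - C (z' i) :=
    (minpoly.eq_of_irreducible_of_monic hirr haev (monic_X_pow_sub_C _ hp.ne_zero)).symm
  have htop : IntermediateField.adjoin Q {y} = ⊤ := by
    apply IntermediateField.toSubfield_injective
    rw [IntermediateField.adjoin_toSubfield, hgen]
    rfl
  rw [← IntermediateField.finrank_top', ← htop, IntermediateField.adjoin.finrank hint, hmin,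
    natDegree_X_pow_sub_C]

set_option backward.isDefEq.respectTransparency.types false in
/-- A degree `p` extension of normal domains whose `p`-th powers are congruent to the base modulo `p` is not tame
at a prime containing `p`. -/
theorem not_tame_of_pow {K' K : Type u} [CommRing K'] [IsRegularLocalRing K'] [IsDomain K'] [CommRing K] [IsDomain K]
    [IsNoetherianRing K] [IsIntegrallyClosed K] [Algebra K' K] [Module.Finite K' K] {p : ℕ} (hp : p.Prime)
    (P : Ideal K') [P.IsPrime] (hP : P.height = 1) (hpP : (p : K') ∈ P)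
    (hpow : ∀ x : K, ∃ (a : K') (c : K), x ^ p = algebraMap K' K a + (p : K) * c)
    {M : Type u} [Field M] (ψ : K →+* M) (hψinj : Function.Injective ψ) (ψ' : K' →+* M)
    (hψj : ψ.comp (algebraMap K' K) = ψ') (hψ'inj : Function.Injective ψ')
    (hgen : ∀ w : M, ∃ a b : K, ψ b ≠ 0 ∧ w * ψ b = ψ a)
    (hdeg : letI := (IsFractionRing.lift (K := FractionRing K') hψ'inj).toAlgebra
      Module.finrank (FractionRing K') M = p)
    (gD : Localization.AtPrime P →+* M) (hgD : gD.comp (algebraMap _ _) = ψ')
    (htame : ∀ (V : ValuationSubring M) (hV : EtRam.Dominates (Localization.AtPrime P) gD V),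
      ∃ e : ℕ, 0 < e ∧ EtRam26.RamHom (R := Localization.AtPrime P) (S := ↥V) (gD.codRestrict V hV.1) e ∧
        (e : ResidueField (Localization.AtPrime P)) ≠ 0) : False := by
  classical
  let j₀ := algebraMap K' K
  -- the local ring upstairs
  let D := Localization.AtPrime P
  let Mo := Algebra.algebraMapSubmonoid K P.primeCompl
  let S := Localization Mo
  have hj₀ : Function.Injective j₀ := fun a b h => hψ'inj (by rw [← hψj]; exact congrArg ψ h)
  have hMo : Mo ≤ nonZeroDivisors K := by
    rintro _ ⟨a, ha, rfl⟩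
    exact mem_nonZeroDivisors_of_ne_zero ((map_ne_zero_iff _ hj₀).mpr fun h0 => ha (h0 ▸ P.zero_mem))
  have : IsDomain S := IsLocalization.isDomain_of_le_nonZeroDivisors S hMo
  have : IsIntegrallyClosed S := isIntegrallyClosed_of_isLocalization _ Mo hMo
  have : Module.Finite D S := Module.Finite.of_isLocalizedModule P.primeCompl
    (IsScalarTower.toAlgHom K' K S).toLinearMap
  have hu : ∀ s : Mo, IsUnit (ψ s) := fun s => IsUnit.mk0 _
    ((map_ne_zero_iff _ hψinj).mpr (nonZeroDivisors.ne_zero (hMo s.2)))
  let φ : S →+* M := IsLocalization.lift hu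
  have hφK : ∀ x, φ (algebraMap K S x) = ψ x := IsLocalization.lift_eq hu
  have hφD : φ.comp (algebraMap D S) = gD := by
    refine IsLocalization.ringHom_ext P.primeCompl (RingHom.ext fun a => ?_)
    rw [RingHom.comp_apply, RingHom.comp_apply, ← IsScalarTower.algebraMap_apply,
      IsScalarTower.algebraMap_apply K' K S, hφK]
    exact (RingHom.congr_fun hψj a).trans (RingHom.congr_fun hgD a).symm
  have hφinj : Function.Injective φ := by
    refine (IsLocalization.lift_injective_iff hu).mpr fun x y =>
      ⟨fun h => congrArg ψ (IsLocalization.injective S hMo h), fun h => congrArg _ (hψinj h)⟩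
  have hDinj : Function.Injective gD := by
    rw [injective_iff_map_eq_zero]
    intro x hx
    obtain ⟨a, s, rfl⟩ := IsLocalization.exists_mk'_eq P.primeCompl x
    have h0 := congrArg gD (IsLocalization.mk'_spec D a s)
    rw [map_mul, hx, zero_mul] at h0
    have := hψ'inj ((RingHom.congr_fun hgD a).symm.trans (h0.symm.trans (map_zero ψ').symm))
    rw [this, IsLocalization.mk'_zero]
  have hinjS : Function.Injective (algebraMap D S) :=
    Function.Injective.of_comp (f := φ) (by rw [← RingHom.coe_comp, hφD]; exact hDinj)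
  have hpS : ∀ (m : Ideal S), m.IsMaximal → algebraMap K S (p : K) ∈ m := by
    intro m hm
    have hlo := IsLocalRing.eq_maximalIdeal (Ideal.isMaximal_comap_of_isIntegral_of_isMaximal (R := D) m)
    have : algebraMap D S (algebraMap K' D p) ∈ m :=
      hlo.ge ((IsLocalization.AtPrime.to_map_mem_maximal_iff D P _).mpr hpP)
    simpa using this
  have hKmem : ∀ (m : Ideal S), m.IsMaximal → ∀ x : K, ∀ a c, x ^ p = j₀ a + (p : K) * c →
      (algebraMap K S x ∈ m ↔ a ∈ P) := by
    intro m hm x a c h
    have hlo := IsLocalRing.eq_maximalIdeal (Ideal.isMaximal_comap_of_isIntegral_of_isMaximal (R := D) m)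
    have h1 : algebraMap K S (j₀ a) = algebraMap D S (algebraMap K' D a) := by
      show algebraMap K S (algebraMap K' K a) = _
      rw [← IsScalarTower.algebraMap_apply K' K S, ← IsScalarTower.algebraMap_apply K' D S]
    have h2 : algebraMap K S x ^ p = algebraMap D S (algebraMap K' D a) + algebraMap K S p * algebraMap K S c := by
      rw [← h1, ← map_pow, h, map_add, map_mul]
    constructor
    · intro hx
      have h3 : algebraMap D S (algebraMap K' D a) ∈ m :=
        (Ideal.add_mem_iff_left _ (Ideal.mul_mem_right _ _ (hpS m hm))).mp (h2 ▸ Ideal.pow_mem_of_mem _ hx p hp.pos)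
      exact (IsLocalization.AtPrime.to_map_mem_maximal_iff D P _).mp (hlo.le h3)
    · intro ha
      refine hm.isPrime.mem_of_pow_mem p ?_
      rw [h2]
      exact add_mem (hlo.ge ((IsLocalization.AtPrime.to_map_mem_maximal_iff D P _).mpr ha))
        (Ideal.mul_mem_right _ _ (hpS m hm))
  have : IsLocalRing S := by
    obtain ⟨m₀, hm₀⟩ := Ideal.exists_maximal S
    refine IsLocalRing.of_unique_max_ideal ⟨m₀, hm₀, fun m hm => ?_⟩
    have he : ∀ (m : Ideal S) (_ : m.IsMaximal), m.comap (algebraMap K S) = m₀.comap (algebraMap K S) := by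
      intro m hm
      ext x
      obtain ⟨a, c, h⟩ := hpow x
      exact (hKmem m hm x a c h).trans (hKmem m₀ hm₀ x a c h).symm
    rw [← IsLocalization.map_comap Mo S m, ← IsLocalization.map_comap Mo S m₀]
    exact congrArg _ (he m hm)
  have hD1 : ringKrullDim D = 1 := by rw [IsLocalization.AtPrime.ringKrullDim_eq_height P, hP]; rfl
  have : IsRegularLocalRing D := CAlg1.regular_localization K' P
  have : IsDomain D := IsLocalization.isDomain_localization P.primeCompl_le_nonZeroDivisors
  have hDnf : ¬ IsField D := fun hD => by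
    rw [ringKrullDim_eq_zero_of_isField hD] at hD1
    exact absurd hD1 (by decide)
  have : IsDiscreteValuationRing D := by
    refine ((IsDiscreteValuationRing.TFAE D hDnf).out 4 0).mp ?_
    have hs := IsRegularLocalRing.spanFinrank_maximalIdeal (R := D)
    rw [hD1, show (1 : WithBot ℕ∞) = ((1 : ℕ) : WithBot ℕ∞) from rfl, Nat.cast_inj] at hs
    exact ((Submodule.spanFinrank_eq_one_iff _).mp hs).1
  have : Ring.DimensionLEOne S := ⟨fun {q} hq hqp => by
    refine Ideal.isMaximal_of_isIntegral_of_isMaximal_comap (R := D) q ?_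
    exact Ring.DimensionLEOne.maximalOfPrime (fun h0 => hq (Ideal.eq_bot_of_comap_eq_bot h0)) inferInstance⟩
  have : IsNoetherianRing S := IsLocalization.isNoetherianRing Mo S inferInstance
  have hSnf : ¬ IsField S := fun hS => by
    have hD := isField_of_isIntegral_of_isField hinjS hS
    have hD1 : ringKrullDim D = 1 := by rw [IsLocalization.AtPrime.ringKrullDim_eq_height P, hP]; rfl
    rw [ringKrullDim_eq_zero_of_isField hD] at hD1
    exact absurd hD1 (by decide)
  have hded : IsDedekindDomain S := { }
  have : IsDiscreteValuationRing S := ((IsDiscreteValuationRing.TFAE S hSnf).out 2 0).mp hded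
  have hfrac : ∀ w : M, ∃ a b : S, φ b ≠ 0 ∧ w * φ b = φ a := fun w => by
    obtain ⟨a, b, hb, hab⟩ := hgen w
    exact ⟨algebraMap K S a, algebraMap K S b, by rw [hφK]; exact hb, by rw [hφK, hφK]; exact hab⟩
  let Q := FractionRing K'
  let : Algebra Q M := (IsFractionRing.lift hψ'inj).toAlgebra
  have hQM : ∀ a, algebraMap Q M (algebraMap K' Q a) = ψ' a := IsFractionRing.lift_algebraMap hψ'inj
  let : Algebra S M := φ.toAlgebra
  have : FaithfulSMul S M := (faithfulSMul_iff_algebraMap_injective S M).mpr hφinj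
  have : IsFractionRing S M := IsFractionRing.of_field S M fun w => by
    obtain ⟨a, b, hb, hab⟩ := hfrac w
    exact ⟨a, b, (eq_div_iff hb).mpr hab⟩
  let : Algebra D Q := IsLocalization.localizationAlgebraOfSubmonoidLe D Q P.primeCompl (nonZeroDivisors K')
    P.primeCompl_le_nonZeroDivisors
  have : IsScalarTower K' D Q := IsLocalization.localization_isScalarTower_of_submonoid_le D Q P.primeCompl
    (nonZeroDivisors K') P.primeCompl_le_nonZeroDivisors
  have : IsFractionRing D Q := IsFractionRing.isFractionRing_of_isDomain_of_isLocalization P.primeCompl D Q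
  let : Algebra D M := gD.toAlgebra
  have : IsScalarTower D S M := .of_algebraMap_eq fun a => (RingHom.congr_fun hφD a).symm
  have : IsScalarTower D Q M := .of_algebraMap_eq' (IsLocalization.ringHom_ext P.primeCompl (RingHom.ext fun a => by
    show gD (algebraMap K' D a) = algebraMap Q M (algebraMap D Q (algebraMap K' D a))
    rw [← IsScalarTower.algebraMap_apply K' D Q, hQM]
    exact RingHom.congr_fun hgD a))
  have : FaithfulSMul D S := (faithfulSMul_iff_algebraMap_injective D S).mpr hinjS
  have hrank : Module.finrank D S = p := by rw [← hdeg]; exact (IsFractionRing.finrank_eq D Q S M).symm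
  -- the valuation ring
  let V := Ram24.rangeVS φ hfrac
  let e : S ≃+* V := RingEquiv.ofBijective (φ.codRestrict V fun t => ⟨t, rfl⟩)
    ⟨fun a b hab => hφinj (congrArg Subtype.val hab), fun ⟨_, t, ht⟩ => ⟨t, Subtype.ext ht⟩⟩
  have hloc : IsLocalHom (algebraMap D S) :=
    (algebraMap_isIntegral_iff.mpr inferInstance).isLocalHom hinjS
  have hgV : ∀ a, gD a = (e (algebraMap D S a) : M) := fun a => (RingHom.congr_fun hφD a).symm
  have hV : EtRam.Dominates D gD V := by
    refine ⟨fun a => hgV a ▸ (e _).2, fun a ha => ?_⟩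
    rw [hgV, ← ValuationSubring.valuation_lt_one_iff]
    exact map_nonunit (e : S →+* V) _ (map_nonunit (algebraMap D S) a ha)
  obtain ⟨k, hk0, hk, hne⟩ := htame V hV
  have hcomp : algebraMap D S = (e.symm : V →+* S).comp (gD.codRestrict V hV.1) := by
    refine RingHom.ext fun a => (e.symm_apply_apply _).symm.trans (congrArg e.symm ?_)
    exact Subtype.ext (hgV a).symm
  have : IsDiscreteValuationRing V := IsDiscreteValuationRing.RingEquivClass.isDiscreteValuationRing e
  have hk' : EtRam26.RamHom (algebraMap D S) (1 * k) := by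
    rw [hcomp]
    exact hk.comp (EtRam26.ramHom_equiv e.symm)
  rw [one_mul] at hk'
  have hres : ∀ s : S, ∃ d : D, s ^ p - algebraMap D S d ∈ maximalIdeal S := by
    intro s
    obtain ⟨x, ⟨_, a, ha, rfl⟩, rfl⟩ := IsLocalization.exists_mk'_eq Mo s
    obtain ⟨b, c, hb⟩ := hpow x
    let sa : P.primeCompl := ⟨a, ha⟩
    refine ⟨IsLocalization.mk' D b (sa ^ p), ?_⟩
    have hA : algebraMap D S (algebraMap K' D a) = algebraMap K S (j₀ a) := by
      rw [← IsScalarTower.algebraMap_apply, IsScalarTower.algebraMap_apply K' K S]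
    have hB : algebraMap D S (algebraMap K' D b) = algebraMap K S (j₀ b) := by
      rw [← IsScalarTower.algebraMap_apply, IsScalarTower.algebraMap_apply K' K S]
    have hau : IsUnit (algebraMap K S (j₀ a)) := IsLocalization.map_units S (⟨j₀ a, a, ha, rfl⟩ : Mo)
    have h1 : algebraMap D S (IsLocalization.mk' D b (sa ^ p)) * algebraMap K S (j₀ a) ^ p =
        algebraMap K S (j₀ b) := by
      rw [← hA, ← map_pow, ← map_mul, ← hB, ← map_pow]
      congr 1
      exact IsLocalization.mk'_spec D b (sa ^ p)
    have h2 : IsLocalization.mk' S x (⟨_, a, ha, rfl⟩ : Mo) * algebraMap K S (j₀ a) = algebraMap K S x :=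
      IsLocalization.mk'_spec S x _
    refine (Ideal.mul_unit_mem_iff_mem _ (hau.pow p)).mp ?_
    rw [sub_mul, ← mul_pow, h2, h1, ← map_pow, hb, map_add, map_mul, add_sub_cancel_left]
    exact Ideal.mul_mem_right _ _ (hpS _ inferInstance)
  have hpD : ((p : ℕ) : D) ∈ maximalIdeal D := by
    rw [← map_natCast (algebraMap K' D)]
    exact (IsLocalization.AtPrime.to_map_mem_maximal_iff D P _).mpr hpP
  have := ram_eq_prime hinjS hp hrank hres hpD hk'
  subst this
  refine hne ?_
  rw [← map_natCast (residue D), residue_eq_zero_iff]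
  exact hpD


set_option backward.isDefEq.respectTransparency.types false in
/-- The `p`-th root step is never tame at a prime containing `p`. -/
theorem not_tame_step (hf : IsParams f) (hn' : ∀ j, 1 ≤ n' j) (hp : p.Prime)
    (P : Ideal (MvPolynomial (Fin r) R ⧸ ker f n')) [P.IsPrime] (hP : P.height = 1)
    (hpP : (p : MvPolynomial (Fin r) R ⧸ ker f n') ∈ P)
    {M : Type u} [Field M] (g : R →+* M) (hg : Function.Injective g) (z : Fin r → M)
    (z' : Fin r → M) (hz'i : z' i = z i ^ p) (hzne : ∀ j, j ≠ i → z' j = z j)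
    (hz' : ∀ j, z' j ^ n' j = g (f j)) (hgen : rootField g z = ⊤)
    (gD : Localization.AtPrime P →+* M)
    (hgD : gD.comp (algebraMap _ _) = rootHom f n' g z' hz')
    (htame : ∀ (V : ValuationSubring M) (hV : EtRam.Dominates (Localization.AtPrime P) gD V),
      ∃ e : ℕ, 0 < e ∧ EtRam26.RamHom (R := Localization.AtPrime P) (S := ↥V) (gD.codRestrict V hV.1) e ∧
        (e : ResidueField (Localization.AtPrime P)) ≠ 0) : False := by
  classical
  let n : Fin r → ℕ := Function.update n' i (n' i * p)
  have hn : ∀ j, 1 ≤ n j := fun j => by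
    rcases eq_or_ne j i with rfl | hj
    · simp only [n, Function.update_self]; exact Nat.mul_pos (hn' j) hp.pos
    · simp only [n, Function.update_of_ne hj]; exact hn' j
  have hni : n i = n' i * p := Function.update_self ..
  have hnne : ∀ j, j ≠ i → n j = n' j := fun j hj => Function.update_of_ne hj _ _
  have hz : ∀ j, z j ^ n j = g (f j) := fun j => by
    rcases eq_or_ne j i with rfl | hj
    · rw [hni, mul_comm, pow_mul, ← hz'i, hz']
    · rw [hnne j hj, ← hzne j hj, hz']
  let K' := MvPolynomial (Fin r) R ⧸ ker f n'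
  let K := MvPolynomial (Fin r) R ⧸ ker f n
  obtain ⟨hK', -⟩ := isParams_T hf hn'
  obtain ⟨hK, -⟩ := isParams_T hf hn
  have : IsDomain K' := CAlg1.isDomain_regular K'
  have : IsDomain K := CAlg1.isDomain_regular K
  have : IsIntegrallyClosed K := CAlg6.isIntegrallyClosed_of_regular K
  have := KummerAlg84.finite (a := f) hn
  let T₂ : Fin r → K := fun j => if j = i then T f n j ^ p else T f n j
  let j₀ : K' →+* K := rootHom f n' (algebraMap R K) T₂ (fun j => by
    rcases eq_or_ne j i with rfl | hj
    · simp only [T₂, if_pos]; rw [← pow_mul, mul_comm, ← hni, T_pow]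
    · simp only [T₂, if_neg hj]; rw [← hnne j hj, T_pow])
  let : Algebra K' K := j₀.toAlgebra
  have : IsScalarTower R K' K := IsScalarTower.of_algebraMap_eq (R := R) (S := K') (A := K) fun a => (rootHom_algebraMap f n' _ _ _ a).symm
  have : Module.Finite K' K := Module.Finite.of_restrictScalars_finite R K' K
  let ψ := rootHom f n g z hz
  let ψ' := rootHom f n' g z' hz'
  have hψj : ψ.comp j₀ = ψ' := by
    refine Ideal.Quotient.ringHom_ext (MvPolynomial.ringHom_ext (fun c => ?_) fun j => ?_)
    · show ψ (j₀ (algebraMap R K' c)) = ψ' (algebraMap R K' c)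
      rw [rootHom_algebraMap, rootHom_algebraMap, rootHom_algebraMap]
    · show ψ (j₀ (T f n' j)) = ψ' (T f n' j)
      rw [rootHom_T, rootHom_T]
      rcases eq_or_ne j i with rfl | hj
      · simp only [T₂, if_pos, map_pow, ψ, rootHom_T, hz'i]
      · simp only [T₂, if_neg hj, ψ, rootHom_T, hzne j hj]
  have hψinj : Function.Injective ψ := rootHom_injective hf hn g hg z hz
  have hψ'inj : Function.Injective ψ' := rootHom_injective hf hn' g hg z' hz'
  -- p-th powers
  have hpow : ∀ x : K, ∃ (a : K') (c : K), x ^ p = j₀ a + (p : K) * c := by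
    intro x
    obtain ⟨x, rfl⟩ := Ideal.Quotient.mk_surjective x
    induction x using MvPolynomial.induction_on with
    | C c =>
      refine ⟨algebraMap R K' (c ^ p), 0, ?_⟩
      rw [mul_zero, add_zero, rootHom_algebraMap, map_pow]
      rfl
    | add x y hx hy =>
      obtain ⟨a, c, ha⟩ := hx
      obtain ⟨b, d, hb⟩ := hy
      obtain ⟨e, he⟩ := (Commute.all (Ideal.Quotient.mk (ker f n) x) (Ideal.Quotient.mk (ker f n) y)).exists_add_pow_prime_eq hp
      refine ⟨a + b, c + d + Ideal.Quotient.mk (ker f n) x * Ideal.Quotient.mk (ker f n) y * e, ?_⟩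
      rw [map_add (Ideal.Quotient.mk _), he, ha, hb, map_add]
      ring
    | mul_X x j hx =>
      obtain ⟨a, c, ha⟩ := hx
      rcases eq_or_ne j i with rfl | hj
      · refine ⟨a * T f n' j, c * T f n j ^ p, ?_⟩
        rw [map_mul, mul_pow, ha, map_mul, rootHom_T]
        simp only [T₂, if_pos]
        rw [show Ideal.Quotient.mk (ker f n) (MvPolynomial.X j) = T f n j from rfl]
        ring
      · refine ⟨a * T f n' j ^ p, c * T f n j ^ p, ?_⟩
        rw [map_mul, mul_pow, ha, map_mul, map_pow, rootHom_T]
        simp only [T₂, if_neg hj]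
        rw [show Ideal.Quotient.mk (ker f n) (MvPolynomial.X j) = T f n j from rfl]
        ring
  -- the degree
  let Q := FractionRing K'
  let : Algebra Q M := (IsFractionRing.lift hψ'inj).toAlgebra
  have hQM : ∀ a, algebraMap Q M (algebraMap K' Q a) = ψ' a := IsFractionRing.lift_algebraMap hψ'inj
  let gQ : R →+* Q := (algebraMap K' Q).comp (algebraMap R K')
  have hgQ : Function.Injective gQ :=
    (IsFractionRing.injective K' Q).comp (KummerAlg84.injective_algebraMap hn')
  let zQ : Fin r → Q := fun j => algebraMap K' Q (T f n' j)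
  have hzQ : ∀ j, zQ j ^ n' j = gQ (f j) := fun j => by
    show algebraMap K' Q _ ^ _ = _
    rw [← map_pow, T_pow]
    rfl
  have hQgen : rootField gQ zQ = ⊤ := by
    rw [eq_top_iff]
    intro x _
    obtain ⟨a, b, -, rfl⟩ := IsFractionRing.div_surjective (A := K') x
    have hmem : ∀ a : K', algebraMap K' Q a ∈ rootField gQ zQ := fun a => by
      have h := range_subset_rootField gQ zQ hzQ a
      have he : rootHom f n' gQ zQ hzQ = algebraMap K' Q :=
        Ideal.Quotient.ringHom_ext (MvPolynomial.ringHom_ext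
          (fun c => rootHom_algebraMap f n' gQ zQ hzQ c) fun j => rootHom_T f n' gQ zQ hzQ j)
      rwa [he] at h
    exact div_mem (hmem a) (hmem b)
  have hQMgen : Subfield.closure (Set.range (algebraMap Q M) ∪ {z i}) = ⊤ := by
    rw [eq_top_iff, ← hgen, rootField, Subfield.closure_le]
    rintro w (⟨a, rfl⟩ | ⟨j, rfl⟩)
    · exact Subfield.subset_closure (Or.inl ⟨gQ a, (hQM _).trans (rootHom_algebraMap f n' g z' hz' a)⟩)
    · rcases eq_or_ne j i with rfl | hj
      · exact Subfield.subset_closure (Or.inr rfl)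
      · exact Subfield.subset_closure (Or.inl ⟨zQ j, by rw [hQM, rootHom_T, hzne j hj]⟩)
  have hdeg : Module.finrank Q M = p := finrank_step hf hn' hp gQ hgQ zQ hzQ hQgen (z i)
    (by rw [hQM, rootHom_T, hz'i]) hQMgen
  refine not_tame_of_pow hp P hP hpP hpow ψ hψinj ψ' hψj hψ'inj ?_ hdeg gD hgD htame
  refine EtRam26.frac_of_gen ψ (Set.range g ∪ Set.range z) ?_ hgen
  rintro w (⟨a, rfl⟩ | ⟨j, rfl⟩)
  · exact ⟨algebraMap R K a, 1, by simp, by rw [map_one, mul_one]; exact (rootHom_algebraMap f n g z hz a).symm⟩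
  · exact ⟨T f n j, 1, by simp, by simp [ψ, rootHom_T]⟩

end Groth.Agent.Abh84
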