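import Groth.Prelude.Def_SGA1
import Groth.Agent.Abh84.KummerField
import Groth.Agent.Abh84.KummerStep
import Groth.Agent.EtRam26.Factor
import Mathlib.RingTheory.Unramified.Field
import Mathlib.RingTheory.Unramified.Finite
import Mathlib.RingTheory.QuasiFinite.Basic

/-!
# Generic points of a finite étale cover of a basic open
-/

set_option autoImplicit false
universe u

open IsLocalRing

namespace Groth.Agent.Abh84

/-- `genericResidueMap` on elements of the base. -/
theorem genericResidueMap_algebraMap {A B : Type u} [CommRing A] [CommRing B] (φ : A →+* B) (P : Ideal A) [P.IsPrime]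
    (q : Ideal B) [q.IsPrime] (hq : q.comap φ = ⊥) (a : A) :
    SGA1.genericResidueMap φ P q hq (algebraMap A _ a) = algebraMap B q.ResidueField (φ a) :=
  IsLocalization.lift_eq (SGA1.isUnit_genericResidue φ P q hq) a

theorem generic_injective {A B : Type u} [CommRing A] [CommRing B] (φ : A →+* B)
    (q : Ideal B) [q.IsPrime] (hq : q.comap φ = ⊥) :
    Function.Injective ((algebraMap B q.ResidueField).comp φ) := by
  rw [RingHom.injective_iff_ker_eq_bot, ← RingHom.comap_ker, Ideal.ker_algebraMap_residueField, hq]

theorem exists_residue_frac {B : Type u} [CommRing B] (q : Ideal B) [q.IsPrime] (y : q.ResidueField) :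
    ∃ a b : B, algebraMap B q.ResidueField b ≠ 0 ∧ y * algebraMap B q.ResidueField b = algebraMap B q.ResidueField a := by
  obtain ⟨a, b, hb, rfl⟩ := IsFractionRing.div_surjective (A := B ⧸ q) y
  obtain ⟨a, rfl⟩ := Ideal.Quotient.mk_surjective a
  obtain ⟨b, rfl⟩ := Ideal.Quotient.mk_surjective b
  have h : ∀ c, algebraMap (B ⧸ q) q.ResidueField (Ideal.Quotient.mk q c) = algebraMap B q.ResidueField c :=
    fun c => (IsScalarTower.algebraMap_apply B (B ⧸ q) q.ResidueField c).symm
  have hb0 : algebraMap B q.ResidueField b ≠ 0 := by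
    rw [← h]
    exact (map_ne_zero_iff _ (IsFractionRing.injective (B ⧸ q) q.ResidueField)).mpr (nonZeroDivisors.ne_zero hb)
  exact ⟨a, b, hb0, by rw [h, h, div_mul_cancel₀ _ hb0]⟩

variable {A : Type u} [CommRing A] [IsRegularLocalRing A] [IsDomain A] {r : ℕ} {f : Fin r → A}
  (AF : Type u) [CommRing AF] [Algebra A AF] [IsLocalization.Away (∏ i, f i) AF]
  (B : Type u) [CommRing B] [Algebra AF B] [Algebra A B] [IsScalarTower A AF B]
  [Module.Finite AF B] [Algebra.Etale AF B]

include f AF in
/-- The residue field of a generic point is finite separable over the fraction field. -/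
theorem residueField_finite_separable (q : Ideal B) [q.IsPrime] (hq : q.comap (algebraMap A B) = ⊥) :
    letI := (IsFractionRing.lift (K := FractionRing A) (generic_injective (algebraMap A B) q hq)).toAlgebra
    FiniteDimensional (FractionRing A) q.ResidueField ∧ Algebra.IsSeparable (FractionRing A) q.ResidueField := by
  let := (IsFractionRing.lift (K := FractionRing A) (generic_injective (algebraMap A B) q hq)).toAlgebra
  have : IsScalarTower A (FractionRing A) q.ResidueField := .of_algebraMap_eq fun a => by
    rw [IsScalarTower.algebraMap_apply A B q.ResidueField]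
    exact (IsFractionRing.lift_algebraMap (generic_injective (algebraMap A B) q hq) a).symm
  have : Algebra.FormallyUnramified A AF := .of_isLocalization (Submonoid.powers (∏ i, f i))
  have : Algebra.FormallyUnramified A B := .comp A AF B
  have : Algebra.EssFiniteType A AF := .of_isLocalization AF (Submonoid.powers (∏ i, f i))
  have : Algebra.EssFiniteType A B := .comp A AF B
  have : Algebra.FormallyUnramified B (Localization.AtPrime q) := .of_isLocalization q.primeCompl
  have : Algebra.FormallyUnramified (Localization.AtPrime q) q.ResidueField :=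
    .of_surjective (Algebra.ofId _ _) residue_surjective
  have : Algebra.FormallyUnramified B q.ResidueField := .comp B (Localization.AtPrime q) _
  have : Algebra.FormallyUnramified A q.ResidueField := .comp A B _
  have : Algebra.EssFiniteType A q.ResidueField := .comp A B _
  have : Algebra.FormallyUnramified (FractionRing A) q.ResidueField :=
    .of_restrictScalars A (FractionRing A) q.ResidueField
  have : Algebra.EssFiniteType (FractionRing A) q.ResidueField := .of_comp A (FractionRing A) q.ResidueField
  exact ⟨Algebra.FormallyUnramified.finite_of_free (FractionRing A) q.ResidueField,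
    Algebra.FormallyUnramified.isSeparable _ _⟩

include f AF in
theorem finite_generic : {q : Ideal B | q.IsPrime ∧ q.comap (algebraMap A B) = ⊥}.Finite := by
  let Q : Ideal AF := ⊥
  have hFA : ∀ (q : Ideal B), q.IsPrime → q.comap (algebraMap A B) = ⊥ → q.comap (algebraMap AF B) = ⊥ := by
    intro q _ hq
    rw [eq_bot_iff]
    intro x hx
    rw [← IsLocalization.map_under (Submonoid.powers (∏ i, f i)) AF (q.comap (algebraMap AF B)),
      Ideal.under_def, Ideal.comap_comap, ← IsScalarTower.algebraMap_eq, hq, Ideal.map_bot] at hx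
    exact hx
  by_cases hp : (⊥ : Ideal AF).IsPrime
  · refine (Algebra.QuasiFinite.finite_primesOver (R := AF) (S := B) (⊥ : Ideal AF)).subset fun q hq => ?_
    exact ⟨hq.1, ⟨(hFA q hq.1 hq.2).symm⟩⟩
  · refine Set.Finite.subset Set.finite_empty fun q hq => hp ?_
    have := hq.1
    rw [← hFA q hq.1 hq.2]
    infer_instance

/-- The condition on exponents making the cover unramified after extracting roots. -/
def DivAt [∀ i, (Ideal.span {f i}).IsPrime] (n : Fin r → ℕ) : Prop :=
  ∀ (i : Fin r) (q : Ideal B) [q.IsPrime] (hq : q.comap (algebraMap A B) = ⊥) (V : ValuationSubring q.ResidueField)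
    (hV : EtRam.Dominates (Localization.AtPrime (Ideal.span {f i}))
      (SGA1.genericResidueMap (algebraMap A B) (Ideal.span {f i}) q hq) V),
    ∃ m : ℕ, 0 < m ∧ m ∣ n i ∧ EtRam26.RamHom (R := Localization.AtPrime (Ideal.span {f i})) (S := ↥V)
      ((SGA1.genericResidueMap (algebraMap A B) (Ideal.span {f i}) q hq).codRestrict V hV.1) m ∧
      (m : ResidueField (Localization.AtPrime (Ideal.span {f i}))) ≠ 0

include f AF in
/-- Tameness gives common exponents. -/
theorem exists_divAt (hf : IsParams f) [∀ i, (Ideal.span {f i}).IsPrime]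
    (htame : SGA1.IsTameAlong f (algebraMap A B)) :
    ∃ e : Fin r → ℕ, (∀ i, 1 ≤ e i) ∧ (∀ i, (e i : A) ≠ 0) ∧ DivAt (f := f) B e := by
  classical
  let Gen := {q : Ideal B // q.IsPrime ∧ q.comap (algebraMap A B) = ⊥}
  have : Finite Gen := (finite_generic (f := f) AF B).to_subtype
  let := Fintype.ofFinite Gen
  have key : ∀ (i : Fin r) (q : Gen), ∃ e₀ : ℕ, 0 < e₀ ∧
      (e₀ : ResidueField (Localization.AtPrime (Ideal.span {f i}))) ≠ 0 ∧
      (letI := q.2.1
      ∀ (V : ValuationSubring q.1.ResidueField)
        (hV : EtRam.Dominates (Localization.AtPrime (Ideal.span {f i}))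
          (SGA1.genericResidueMap (algebraMap A B) (Ideal.span {f i}) q.1 q.2.2) V),
        ∃ m : ℕ, 0 < m ∧ m ∣ e₀ ∧ EtRam26.RamHom (R := Localization.AtPrime (Ideal.span {f i})) (S := ↥V)
          ((SGA1.genericResidueMap (algebraMap A B) (Ideal.span {f i}) q.1 q.2.2).codRestrict V hV.1) m ∧
          (m : ResidueField (Localization.AtPrime (Ideal.span {f i}))) ≠ 0) := by
    rintro i ⟨q, hqp, hq⟩
    obtain ⟨hfd, hsep⟩ := residueField_finite_separable (f := f) AF B q hq
    let A₁ := Localization.AtPrime (Ideal.span {f i})
    obtain ⟨hdom, hdvr, hπ, hinj⟩ := isDVR_localization (hf.ne_zero i)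
    let K := FractionRing A
    let : Algebra A₁ K := IsLocalization.localizationAlgebraOfSubmonoidLe A₁ K (Ideal.span {f i}).primeCompl
      (nonZeroDivisors A) (Ideal.span {f i}).primeCompl_le_nonZeroDivisors
    have : IsScalarTower A A₁ K := IsLocalization.localization_isScalarTower_of_submonoid_le A₁ K
      (Ideal.span {f i}).primeCompl (nonZeroDivisors A) (Ideal.span {f i}).primeCompl_le_nonZeroDivisors
    have : IsFractionRing A₁ K :=
      IsFractionRing.isFractionRing_of_isDomain_of_isLocalization (Ideal.span {f i}).primeCompl A₁ K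
    let : Algebra K q.ResidueField :=
      (IsFractionRing.lift (K := K) (generic_injective (algebraMap A B) q hq)).toAlgebra
    let : Algebra A₁ q.ResidueField :=
      (SGA1.genericResidueMap (algebraMap A B) (Ideal.span {f i}) q hq).toAlgebra
    have : IsScalarTower A₁ K q.ResidueField := .of_algebraMap_eq' (IsLocalization.ringHom_ext
      (Ideal.span {f i}).primeCompl (RingHom.ext fun a => by
        show SGA1.genericResidueMap (algebraMap A B) _ q hq (algebraMap A A₁ a) =
          algebraMap K q.ResidueField (algebraMap A₁ K (algebraMap A A₁ a))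
        rw [genericResidueMap_algebraMap, ← IsScalarTower.algebraMap_apply A A₁ K]
        exact (IsFractionRing.lift_algebraMap (generic_injective (algebraMap A B) q hq) a).symm))
    exact EtRam26.exists_common_index (A := A₁) (K := K) (L := q.ResidueField) (htame i q hq)
  choose e₀ he₀ hne hdiv using key
  refine ⟨fun i => ∏ q, e₀ i q, fun i => Finset.prod_pos fun q _ => he₀ i q, fun i h0 => ?_,
    fun i q hqp hq V hV => ?_⟩
  · rw [Nat.cast_prod, Finset.prod_eq_zero_iff] at h0
    obtain ⟨q, -, h0⟩ := h0
    refine hne i q ?_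
    rw [← map_natCast ((residue (Localization.AtPrime (Ideal.span {f i}))).comp
      (algebraMap A (Localization.AtPrime (Ideal.span {f i})))), h0, map_zero]
  · obtain ⟨m, hm, hdvd, hr, hne'⟩ := hdiv i ⟨q, hqp, hq⟩ V hV
    exact ⟨m, hm, hdvd.trans (Finset.dvd_prod_of_mem _ (Finset.mem_univ _)), hr, hne'⟩

end Groth.Agent.Abh84
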