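import Groth.Agent.Abh84.CoverImage
import Groth.Agent.EtRam26.Root
import Mathlib.RingTheory.Ideal.KrullsHeightTheorem

/-!
# The exponents can be taken prime to the residue characteristic
-/

set_option autoImplicit false
universe u

open IsLocalRing

namespace Groth.Agent.Abh84

open Groth.Agent.KummerAlg84

variable {A : Type u} [CommRing A] [IsRegularLocalRing A] [IsDomain A] {r : ℕ} {f : Fin r → A}
  [∀ i, (Ideal.span {f i}).IsPrime]
  (AF : Type u) [CommRing AF] [Algebra A AF] [IsLocalization.Away (∏ i, f i) AF]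
  (B : Type u) [CommRing B] [Algebra AF B] [Algebra A B] [IsScalarTower A AF B]
  [Module.Finite AF B] [Algebra.Etale AF B]

/-- The local ring at a height one prime of a regular ring is a DVR. -/
theorem isDVR_of_height_one {K : Type u} [CommRing K] [IsRegularLocalRing K] [IsDomain K] (P : Ideal K) [P.IsPrime]
    (hP : P.height = 1) :
    ∃ (_ : IsDomain (Localization.AtPrime P)), IsDiscreteValuationRing (Localization.AtPrime P) := by
  let D := Localization.AtPrime P
  have : IsDomain D := IsLocalization.isDomain_localization P.primeCompl_le_nonZeroDivisors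
  have : IsRegularLocalRing D := CAlg1.regular_localization K P
  have hD1 : ringKrullDim D = 1 := by rw [IsLocalization.AtPrime.ringKrullDim_eq_height P, hP]; rfl
  have hDnf : ¬ IsField D := fun hD => by
    rw [ringKrullDim_eq_zero_of_isField hD] at hD1
    exact absurd hD1 (by decide)
  refine ⟨inferInstance, ((IsDiscreteValuationRing.TFAE D hDnf).out 4 0).mp ?_⟩
  have hs := IsRegularLocalRing.spanFinrank_maximalIdeal (R := D)
  rw [hD1, show (1 : WithBot ℕ∞) = ((1 : ℕ) : WithBot ℕ∞) from rfl, Nat.cast_inj] at hs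
  exact ((Submodule.spanFinrank_eq_one_iff _).mp hs).1

include f AF in
/-- A tame cover is tame at every prime of height one. -/
theorem tame_at (hf : IsParams f) (htame : SGA1.IsTameAlong f (algebraMap A B)) (Q₀ : Ideal A) [Q₀.IsPrime]
    (hQ₀ : Q₀.height = 1) (q : Ideal B) [q.IsPrime] (hq : q.comap (algebraMap A B) = ⊥) :
    EtRam.IsTamelyRamified (Localization.AtPrime Q₀) (SGA1.genericResidueMap (algebraMap A B) Q₀ q hq) := by
  by_cases hF : (∏ i, f i) ∈ Q₀
  · obtain ⟨i, -, hi⟩ := Ideal.IsPrime.prod_mem_iff.mp hF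
    obtain rfl : Q₀ = Ideal.span {f i} := by
      have hle : Ideal.span {f i} ≤ Q₀ := (Ideal.span_singleton_le_iff_mem _).mpr hi
      by_contra hne
      have h1 := Ideal.height_strict_mono_of_isPrime (lt_of_le_of_ne hle (Ne.symm hne))
      have h2 := Ideal.height_strict_mono_of_isPrime
        (show (⊥ : Ideal A) < Ideal.span {f i} from
          bot_lt_iff_ne_bot.mpr (mt Ideal.span_singleton_eq_bot.mp (hf.ne_zero i)))
      rw [Ideal.height_bot] at h2
      exact absurd (hQ₀.le.trans (Order.one_le_iff_pos.mpr h2)) (not_le.mpr h1)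
    exact htame i q hq
  obtain ⟨hdom, hdvr⟩ := isDVR_of_height_one Q₀ hQ₀
  let D₀ := Localization.AtPrime Q₀
  let g := SGA1.genericResidueMap (algebraMap A B) Q₀ q hq
  have hg : Function.Injective g := by
    rw [injective_iff_map_eq_zero]
    intro x hx
    obtain ⟨a, s, rfl⟩ := IsLocalization.exists_mk'_eq Q₀.primeCompl x
    have h0 := congrArg g (IsLocalization.mk'_spec D₀ a s)
    rw [map_mul, hx, zero_mul, genericResidueMap_algebraMap] at h0
    rw [generic_injective (algebraMap A B) q hq (h0.symm.trans (map_zero _).symm), IsLocalization.mk'_zero]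
  let j : AF →+* D₀ := IsLocalization.Away.lift (∏ i, f i) (g := algebraMap A D₀)
    (IsLocalization.map_units D₀ (⟨_, hF⟩ : Q₀.primeCompl))
  have key : ∀ (V : ValuationSubring q.ResidueField) (hV : EtRam.Dominates D₀ g V),
      IsDiscreteValuationRing V ∧ EtRam26.RamHom (g.codRestrict V hV.1) 1 := fun V hV => by
    refine EtRam26.ramHom_one_of_baseChange (A := AF) (D := B) j g (algebraMap B q.ResidueField) ?_ hg
      (Set.range g) ?_ ?_ V hV
    · refine IsLocalization.ringHom_ext (Submonoid.powers (∏ i, f i)) (RingHom.ext fun a => ?_)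
      show algebraMap B q.ResidueField (algebraMap AF B (algebraMap A AF a)) = g (j (algebraMap A AF a))
      rw [← IsScalarTower.algebraMap_apply A AF B, IsLocalization.Away.lift_eq, genericResidueMap_algebraMap]
    · rintro _ ⟨a, rfl⟩
      exact ⟨a, 1, by simp, by simp⟩
    · rw [eq_top_iff]
      intro x _
      obtain ⟨a, b, hb, hab⟩ := exists_residue_frac q x
      rw [show x = algebraMap B q.ResidueField a / algebraMap B q.ResidueField b from (eq_div_iff hb).mpr hab]
      exact div_mem (Subfield.subset_closure (Or.inr ⟨a, rfl⟩)) (Subfield.subset_closure (Or.inr ⟨b, rfl⟩))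
  rw [EtRam26.isTamelyRamified_iff hg fun V hV => (key V hV).1]
  exact fun V hV => ⟨1, one_pos, (key V hV).2, by simp⟩

theorem finiteDimensional_toAlgebra (L M : Type u) [Field L] [Field M] [inst : Algebra L M]
    [h : FiniteDimensional L M] : letI := (algebraMap L M).toAlgebra; FiniteDimensional L M := by
  convert h
  exact Algebra.algebra_ext _ _ fun _ => rfl

set_option backward.isDefEq.respectTransparency.types false in
include f AF in
/-- Tameness is inherited by the compositum with a bigger base. -/
theorem tame_compositum (hf : IsParams f) (htame : SGA1.IsTameAlong f (algebraMap A B))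
    {D : Type u} [CommRing D] [IsDomain D] [IsDiscreteValuationRing D] {L : Type u} [Field L] [Algebra D L]
    [IsFractionRing D L] (δ : A →+* D) (hδ : Function.Injective δ)
    (hht : ((maximalIdeal D).comap δ).height = 1)
    {M : Type u} [Field M] [Algebra L M] [FiniteDimensional L M] (χ : B →+* M)
    (hχ : ∀ a, χ (algebraMap A B a) = algebraMap L M (algebraMap D L (δ a)))
    (hgen : Subfield.closure (Set.range (algebraMap L M) ∪ Set.range χ) = ⊤) :
    EtRam.IsTamelyRamified D ((algebraMap L M).comp (algebraMap D L)) := by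
  let Q₀ := (maximalIdeal D).comap δ
  obtain ⟨hdom, hdvr⟩ := isDVR_of_height_one Q₀ hht
  let D₀ := Localization.AtPrime Q₀
  let δ₀ : D₀ →+* D := IsLocalization.lift (M := Q₀.primeCompl) (g := δ)
    fun a => IsLocalRing.notMem_maximalIdeal.mp a.2
  have hδ₀ : ∀ a, δ₀ (algebraMap A D₀ a) = δ a := IsLocalization.lift_eq _
  let : Algebra D₀ D := δ₀.toAlgebra
  have hloc : IsLocalHom (algebraMap D₀ D) := by
    refine ⟨fun x hx => ?_⟩
    obtain ⟨a, s, rfl⟩ := IsLocalization.exists_mk'_eq Q₀.primeCompl x
    refine (IsLocalization.AtPrime.isUnit_mk'_iff D₀ Q₀ a s).mpr fun ha => ?_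
    have h0 := congrArg δ₀ (IsLocalization.mk'_spec D₀ a s)
    rw [map_mul, hδ₀, hδ₀] at h0
    exact (mem_maximalIdeal _).mp ha (h0 ▸ IsUnit.mul hx (IsLocalRing.notMem_maximalIdeal.mp s.2))
  have hinj₀ : Function.Injective (algebraMap D₀ D) := by
    rw [injective_iff_map_eq_zero]
    intro x hx
    obtain ⟨a, s, rfl⟩ := IsLocalization.exists_mk'_eq Q₀.primeCompl x
    have h0 := congrArg δ₀ (IsLocalization.mk'_spec D₀ a s)
    rw [map_mul, show δ₀ _ = 0 from hx, zero_mul, hδ₀] at h0
    rw [hδ (h0.symm.trans (map_zero δ).symm), IsLocalization.mk'_zero]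
  let q := RingHom.ker χ
  have : q.IsPrime := RingHom.ker_isPrime χ
  have hDL := IsFractionRing.injective D L
  have hq : q.comap (algebraMap A B) = ⊥ := by
    rw [eq_bot_iff]
    intro a ha
    exact hδ (hDL ((algebraMap L M).injective
      ((hχ a).symm.trans (ha.trans (by rw [map_zero, map_zero, map_zero])))))
  let ι : q.ResidueField →+* M := Ideal.ResidueField.lift q χ le_rfl fun b hb => IsUnit.mk0 _ hb
  have hι : ∀ b, ι (algebraMap B q.ResidueField b) = χ b := fun b =>
    Ideal.ResidueField.lift_algebraMap _ _ _ _ b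
  obtain ⟨hfd, hsep⟩ := residueField_finite_separable (f := f) AF B q hq
  let KA := FractionRing A
  let : Algebra D₀ KA := IsLocalization.localizationAlgebraOfSubmonoidLe D₀ KA Q₀.primeCompl
    (nonZeroDivisors A) Q₀.primeCompl_le_nonZeroDivisors
  have : IsScalarTower A D₀ KA := IsLocalization.localization_isScalarTower_of_submonoid_le D₀ KA
    Q₀.primeCompl (nonZeroDivisors A) Q₀.primeCompl_le_nonZeroDivisors
  have : IsFractionRing D₀ KA :=
    IsFractionRing.isFractionRing_of_isDomain_of_isLocalization Q₀.primeCompl D₀ KA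
  let : Algebra KA q.ResidueField :=
    (IsFractionRing.lift (K := KA) (generic_injective (algebraMap A B) q hq)).toAlgebra
  have hKA : ∀ a, algebraMap KA q.ResidueField (algebraMap A KA a) = algebraMap B q.ResidueField (algebraMap A B a) :=
    IsFractionRing.lift_algebraMap (generic_injective (algebraMap A B) q hq)
  let iA : KA →+* L := IsFractionRing.lift (K := KA) (g := (algebraMap D L).comp δ) (hDL.comp hδ)
  let : Algebra KA L := iA.toAlgebra
  let : Algebra D₀ L := ((algebraMap D L).comp (algebraMap D₀ D)).toAlgebra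
  have : IsScalarTower D₀ D L := IsScalarTower.of_algebraMap_eq (R := D₀) (S := D) (A := L) fun _ => rfl
  have : IsScalarTower D₀ KA L := IsScalarTower.of_algebraMap_eq' (IsLocalization.ringHom_ext Q₀.primeCompl
    (RingHom.ext fun a => by
      show algebraMap D L (δ₀ (algebraMap A D₀ a)) = iA (algebraMap D₀ KA (algebraMap A D₀ a))
      rw [← IsScalarTower.algebraMap_apply A D₀ KA, hδ₀]
      exact (IsFractionRing.lift_algebraMap (g := (algebraMap D L).comp δ) (hDL.comp hδ) a).symm))
  have hF : EtRam26.IsFactor (K := KA) (algebraMap L M) ι := by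
    refine ⟨fun x => ?_, ?_, ?_⟩
    · refine RingHom.congr_fun (IsLocalization.ringHom_ext (nonZeroDivisors A) (RingHom.ext fun a => ?_) :
        ι.comp (algebraMap KA q.ResidueField) = (algebraMap L M).comp iA) x
      show ι (algebraMap KA q.ResidueField (algebraMap A KA a)) = algebraMap L M (iA (algebraMap A KA a))
      rw [hKA, hι, hχ]
      exact congrArg (algebraMap L M) (IsFractionRing.lift_algebraMap (g := (algebraMap D L).comp δ) (hDL.comp hδ) a).symm
    · rw [eq_top_iff, ← hgen, Subfield.closure_le]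
      rintro x (hx | ⟨b, rfl⟩)
      · exact Subfield.subset_closure (Or.inl hx)
      · exact Subfield.subset_closure (Or.inr ⟨_, hι b⟩)
    · exact finiteDimensional_toAlgebra L M
  have hgr : SGA1.genericResidueMap (algebraMap A B) Q₀ q hq =
      (algebraMap KA q.ResidueField).comp (algebraMap D₀ KA) := IsLocalization.ringHom_ext Q₀.primeCompl
    (RingHom.ext fun a => by
      show SGA1.genericResidueMap (algebraMap A B) Q₀ q hq (algebraMap A D₀ a) =
        algebraMap KA q.ResidueField (algebraMap D₀ KA (algebraMap A D₀ a))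
      rw [genericResidueMap_algebraMap, ← IsScalarTower.algebraMap_apply A D₀ KA, hKA])
  have h0 := tame_at (f := f) AF B hf htame Q₀ hht q hq
  rw [hgr] at h0
  exact EtRam26.isTamelyRamified_factor hF h0 hinj₀

/-- A prime of height one over the residue characteristic. -/
theorem exists_prime_over {R K' : Type u} [CommRing R] [IsRegularLocalRing R] [IsDomain R] [Algebra A R]
    [Module.Flat A R] [IsLocalHom (algebraMap A R)] [CommRing K'] [IsRegularLocalRing K'] [IsDomain K'] [Algebra R K']
    [Module.Finite R K'] (hinjK' : Function.Injective (algebraMap R K'))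
    (hAR : Function.Injective (algebraMap A R)) {p : ℕ} (hpm : (p : A) ∈ maximalIdeal A) (hp0 : (p : A) ≠ 0) :
    ∃ (P : Ideal K') (_ : P.IsPrime), P.height = 1 ∧ (p : K') ∈ P ∧
      (P.comap ((algebraMap R K').comp (algebraMap A R))).height = 1 := by
  have : Algebra.IsIntegral R K' := Algebra.IsIntegral.of_finite R K'
  have hpK' : (p : K') ∈ maximalIdeal K' := by
    have hloc : IsLocalHom (algebraMap R K') := (algebraMap_isIntegral_iff.mpr this).isLocalHom hinjK'
    rw [← map_natCast ((algebraMap R K').comp (algebraMap A R))]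
    exact map_nonunit (algebraMap R K') _ (map_nonunit (algebraMap A R) _ hpm)
  obtain ⟨P, hP, -⟩ := Ideal.exists_minimalPrimes_le
    ((Ideal.span_singleton_le_iff_mem (maximalIdeal K')).mpr hpK')
  have : P.IsPrime := hP.1.1
  have hpP : (p : K') ∈ P := hP.1.2 (Ideal.mem_span_singleton_self _)
  have hpK0 : (p : K') ≠ 0 := by
    rw [← map_natCast ((algebraMap R K').comp (algebraMap A R))]
    exact (map_ne_zero_iff _ hinjK').mpr ((map_ne_zero_iff _ hAR).mpr hp0)
  have hP1 : P.height = 1 := by
    refine le_antisymm (Ideal.height_le_one_of_isPrincipal_of_mem_minimalPrimes _ P hP)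
      (Order.one_le_iff_pos.mpr (pos_iff_ne_zero.mpr fun h0 => hpK0 ?_))
    rw [Ideal.height_eq_zero_iff_eq_bot] at h0
    exact (Submodule.mem_bot K').mp (h0 ▸ hpP)
  refine ⟨P, ‹P.IsPrime›, hP1, hpP, ?_⟩
  have hIC : IsIntegrallyClosed R := CAlg6.isIntegrallyClosed_of_regular R
  have : FaithfulSMul R K' := (faithfulSMul_iff_algebraMap_injective R K').mpr hinjK'
  let : Algebra A K' := ((algebraMap R K').comp (algebraMap A R)).toAlgebra
  have : IsScalarTower A R K' := IsScalarTower.of_algebraMap_eq (R := A) (S := R) (A := K') fun _ => rfl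
  have : Algebra.HasGoingDown A K' := Algebra.HasGoingDown.trans A R K'
  show (P.comap (algebraMap A K')).height = 1
  have : P.LiesOver (P.comap (algebraMap A K')) := ⟨rfl⟩
  refine le_antisymm ?_ (Order.one_le_iff_pos.mpr (pos_iff_ne_zero.mpr fun h0 => hp0 ?_))
  · rw [← hP1, Ideal.height_eq_height_add_of_liesOver_of_hasGoingDown (P.comap (algebraMap A K')) P]
    exact le_self_add
  · rw [Ideal.height_eq_zero_iff_eq_bot] at h0
    refine (Submodule.mem_bot A).mp (h0 ▸ ?_)
    show algebraMap A K' (p : A) ∈ P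
    rwa [map_natCast]

set_option backward.isDefEq.respectTransparency.types false in
include f AF in
/-- Tameness at a height one prime of a normal extension of the base. -/
theorem tame_at_prime (hf : IsParams f) (htame : SGA1.IsTameAlong f (algebraMap A B))
    {K' : Type u} [CommRing K'] [IsRegularLocalRing K'] [IsDomain K'] (P : Ideal K') [P.IsPrime] (hP1 : P.height = 1)
    (j : A →+* K') (hj : Function.Injective j) (hht : (P.comap j).height = 1)
    {L : Type u} [Field L] (ψ : K' →+* L) (hψ : Function.Injective ψ)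
    (hfrac : ∀ x : L, ∃ a b : K', ψ b ≠ 0 ∧ x * ψ b = ψ a)
    {M : Type u} [Field M] [Algebra L M] [FiniteDimensional L M] (χ : B →+* M)
    (hχ : ∀ a, χ (algebraMap A B a) = algebraMap L M (ψ (j a)))
    (hgen : Subfield.closure (Set.range (algebraMap L M) ∪ Set.range χ) = ⊤) :
    ∃ gD : Localization.AtPrime P →+* M, gD.comp (algebraMap K' _) = (algebraMap L M).comp ψ ∧
      ∀ (V : ValuationSubring M) (hV : EtRam.Dominates (Localization.AtPrime P) gD V),
        ∃ e : ℕ, 0 < e ∧ EtRam26.RamHom (R := Localization.AtPrime P) (S := ↥V) (gD.codRestrict V hV.1) e ∧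
          (e : ResidueField (Localization.AtPrime P)) ≠ 0 := by
  obtain ⟨hdom, hdvr⟩ := isDVR_of_height_one P hP1
  let D := Localization.AtPrime P
  have hK'D : Function.Injective (algebraMap K' D) := IsLocalization.injective D P.primeCompl_le_nonZeroDivisors
  let lN : D →+* L := IsLocalization.lift (M := P.primeCompl) (g := ψ) fun s =>
    IsUnit.mk0 _ ((map_ne_zero_iff _ hψ).mpr fun h0 => s.2 (h0 ▸ P.zero_mem))
  have hlN : ∀ k, lN (algebraMap K' D k) = ψ k := IsLocalization.lift_eq _
  have hlinj : Function.Injective lN := by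
    rw [injective_iff_map_eq_zero]
    intro x hx
    obtain ⟨a, s, rfl⟩ := IsLocalization.exists_mk'_eq P.primeCompl x
    have h0 := congrArg lN (IsLocalization.mk'_spec D a s)
    rw [map_mul, hx, zero_mul, hlN] at h0
    rw [hψ (h0.symm.trans (map_zero _).symm), IsLocalization.mk'_zero]
  let : Algebra D L := lN.toAlgebra
  have : FaithfulSMul D L := (faithfulSMul_iff_algebraMap_injective D L).mpr hlinj
  have : IsFractionRing D L := IsFractionRing.of_field D L fun x => by
    obtain ⟨a, b, hb, hab⟩ := hfrac x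
    refine ⟨algebraMap K' D a, algebraMap K' D b, ?_⟩
    show x = lN _ / lN _
    rw [hlN, hlN, eq_div_iff hb, hab]
  let gD : D →+* M := (algebraMap L M).comp (algebraMap D L)
  have hgDinj : Function.Injective gD := (algebraMap L M).injective.comp hlinj
  have hht' : ((maximalIdeal D).comap ((algebraMap K' D).comp j)).height = 1 := by
    rw [← hht, ← Ideal.comap_comap]
    exact congrArg (fun I : Ideal K' => (I.comap j).height) (IsLocalization.AtPrime.under_maximalIdeal D P)
  have htame' := tame_compositum (f := f) AF B hf htame (L := L) ((algebraMap K' D).comp j) (hK'D.comp hj) hht' χ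
    (fun a => (hχ a).trans (congrArg (algebraMap L M) (hlN (j a)).symm)) hgen
  refine ⟨gD, RingHom.ext fun k => congrArg (algebraMap L M) (hlN k), ?_⟩
  refine (EtRam26.isTamelyRamified_iff hgDinj fun V hV =>
    EtRam26.dvr_of_dominates_finite (A := D) (K := L) (algebraMap L M) ?_ V hV).mp htame'
  exact finiteDimensional_toAlgebra L M

/-- All conjugates of the cover over `R` lie in the Kummer field with exponents `n`. -/
def Lives {R : Type u} [CommRing R] [Algebra A R] (f : Fin r → A) (B : Type u) [CommRing B] [Algebra A B]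
    (n : Fin r → ℕ) : Prop :=
  ∀ (Ω : Type u) [Field Ω] [IsAlgClosed Ω] (gR : R →+* Ω), Function.Injective gR →
    ∀ z : Fin r → Ω, (∀ j, z j ^ n j = gR (algebraMap A R (f j))) →
      ∀ χ : B →+* Ω, (∀ a, χ (algebraMap A B a) = gR (algebraMap A R a)) → ∀ b, χ b ∈ rootField gR z

theorem closure_restrict {M : Type u} [Field M] {ι R : Type*} [CommRing R] (g : R →+* M) (z : ι → M)
    (N : Subfield M) (hN : N = Subfield.closure (Set.range g ∪ Set.range z)) (gN : R →+* N)
    (hgN : ∀ a, (gN a : M) = g a) (zN : ι → N) (hzN : ∀ j, (zN j : M) = z j) :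
    Subfield.closure (Set.range gN ∪ Set.range zN) = ⊤ := by
  subst hN
  rw [← EtRam26.closure_preimage_eq_top (Set.range g ∪ Set.range z)]
  refine congrArg _ ?_
  ext x
  simp only [Set.mem_union, Set.mem_range, Set.mem_preimage]
  constructor
  · rintro (⟨a, rfl⟩ | ⟨j, rfl⟩)
    exacts [Or.inl ⟨a, (hgN a).symm⟩, Or.inr ⟨j, (hzN j).symm⟩]
  · rintro (⟨a, ha⟩ | ⟨j, hj⟩)
    exacts [Or.inl ⟨a, Subtype.ext ((hgN a).trans ha)⟩, Or.inr ⟨j, Subtype.ext ((hzN j).trans hj)⟩]

/-- The structure map of an inclusion of subfields. -/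
theorem coe_algebraMap_inclusion {Ω : Type u} [Field Ω] (N' N : Subfield Ω) (hle : N' ≤ N) (x : N') :
    letI := (Subfield.inclusion hle).toAlgebra
    ((algebraMap N' N x : N) : Ω) = (x : Ω) := rfl

set_option backward.isDefEq.respectTransparency.types false in
include f AF in
/-- Lowering an exponent by the residue characteristic. -/
theorem lives_step (hf : IsParams f) (htame : SGA1.IsTameAlong f (algebraMap A B))
    {R : Type u} [CommRing R] [IsRegularLocalRing R] [IsDomain R] [Algebra A R] [Module.Flat A R]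
    [IsLocalHom (algebraMap A R)] (hAR : Function.Injective (algebraMap A R))
    (hfR : IsParams fun i => algebraMap A R (f i))
    {n' : Fin r → ℕ} (hn' : ∀ j, 1 ≤ n' j) {p : ℕ} (hp : p.Prime) (hpm : (p : A) ∈ maximalIdeal A)
    (hp0 : (p : A) ≠ 0) (i : Fin r)
    (h : Lives (R := R) f B (Function.update n' i (n' i * p))) : Lives (R := R) f B n' := by
  classical
  intro Ω _ _ gR hgR z' hz' χ hχ
  obtain ⟨y, hy⟩ := IsAlgClosed.exists_pow_nat_eq (z' i) hp.pos
  let z := Function.update z' i y
  have hzi : z i = y := Function.update_self ..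
  have hzne : ∀ j, j ≠ i → z j = z' j := fun j hj => Function.update_of_ne hj _ _
  have hz : ∀ j, z j ^ Function.update n' i (n' i * p) j = gR (algebraMap A R (f j)) := fun j => by
    rcases eq_or_ne j i with rfl | hj
    · rw [Function.update_self, hzi, mul_comm, pow_mul, hy, hz']
    · rw [Function.update_of_ne hj, hzne j hj, hz']
  let N := rootField gR z
  have hNχ : ∀ b, χ b ∈ N := fun b => h Ω gR hgR z hz χ hχ b
  let N' := rootField gR z'
  have hgN : ∀ a, gR a ∈ N := fun a => Subfield.subset_closure (Or.inl ⟨a, rfl⟩)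
  have hzN : ∀ j, z' j ∈ N := fun j => by
    rcases eq_or_ne j i with rfl | hj
    · have hzjN : z j ∈ N := Subfield.subset_closure (Or.inr ⟨j, rfl⟩)
      rw [hzi] at hzjN
      rw [← hy]
      exact pow_mem hzjN p
    · rw [← hzne j hj]
      exact Subfield.subset_closure (Or.inr ⟨_, rfl⟩)
  have hle : N' ≤ N := by
    refine Subfield.closure_le.mpr ?_
    rintro x (⟨a, rfl⟩ | ⟨j, rfl⟩)
    exacts [hgN a, hzN j]
  by_contra hnot
  let gN' : R →+* N' := gR.codRestrict N' fun a => Subfield.subset_closure (Or.inl ⟨a, rfl⟩)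
  let zN' : Fin r → N' := fun j => ⟨z' j, Subfield.subset_closure (Or.inr ⟨j, rfl⟩)⟩
  have hzN' : ∀ j, zN' j ^ n' j = gN' (algebraMap A R (f j)) := fun j => Subtype.ext (hz' j)
  have hN'gen : rootField gN' zN' = ⊤ := closure_restrict gR z' N' rfl gN' (fun _ => rfl) zN' fun _ => rfl
  let gN : R →+* N := gR.codRestrict N hgN
  let wN : Fin r → N := fun j => ⟨z j, Subfield.subset_closure (Or.inr ⟨j, rfl⟩)⟩
  let wN' : Fin r → N := fun j => ⟨z' j, hzN j⟩
  have hNgen : rootField gN wN = ⊤ := closure_restrict gR z N rfl gN (fun _ => rfl) wN fun _ => rfl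
  let : Algebra N' N := (Subfield.inclusion hle).toAlgebra
  have hgNinj : Function.Injective gN := fun a b hab => hgR (congrArg Subtype.val hab)
  have hgN'inj : Function.Injective gN' := fun a b hab => hgR (congrArg Subtype.val hab)
  have hyN : y ∈ N := hzi ▸ Subfield.subset_closure (Or.inr (Set.mem_range_self i))
  have hgen1 : Subfield.closure (Set.range (algebraMap N' N) ∪ {(⟨y, hyN⟩ : N)}) = ⊤ := by
    rw [eq_top_iff, ← hNgen, rootField, Subfield.closure_le]
    rintro x (⟨a, rfl⟩ | ⟨j, rfl⟩)
    · exact Subfield.subset_closure (Or.inl ⟨gN' a, rfl⟩)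
    · rcases eq_or_ne j i with rfl | hj
      · exact Subfield.subset_closure (Or.inr (Subtype.ext hzi))
      · exact Subfield.subset_closure (Or.inl ⟨zN' j, Subtype.ext (hzne j hj).symm⟩)
  have hdeg : Module.finrank N' N = p :=
    finrank_step hfR hn' hp gN' hgN'inj zN' hzN' hN'gen (⟨y, hyN⟩ : N) (Subtype.ext hy) hgen1
  have : FiniteDimensional N' N := Module.finite_of_finrank_pos (hdeg.symm ▸ hp.pos)
  have hcoe : ∀ x : N', ((algebraMap N' N x : N) : Ω) = (x : Ω) := coe_algebraMap_inclusion N' N hle
  let χN : B →+* N := χ.codRestrict N hNχ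
  have hgen2 : Subfield.closure (Set.range (algebraMap N' N) ∪ Set.range χN) = ⊤ := by
    have hsimple := IntermediateField.isSimpleOrder_of_finrank_prime N' N (hdeg.symm ▸ hp)
    rcases hsimple.eq_bot_or_eq_top (IntermediateField.adjoin N' (Set.range χN)) with h0 | h0
    · exfalso
      refine hnot fun b => ?_
      have hb : χN b ∈ IntermediateField.adjoin N' (Set.range χN) :=
        IntermediateField.subset_adjoin N' _ ⟨b, rfl⟩
      rw [h0, IntermediateField.mem_bot] at hb
      obtain ⟨x, hx⟩ := hb
      have h2 : ((algebraMap N' N x : N) : Ω) = χ b := congrArg Subtype.val hx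
      rw [← h2, hcoe x]
      exact SetLike.coe_mem x
    · have h1 := congrArg IntermediateField.toSubfield h0
      rw [IntermediateField.adjoin_toSubfield] at h1
      exact h1
  -- a prime over the residue characteristic
  let fR : Fin r → R := fun j => algebraMap A R (f j)
  obtain ⟨hK', -⟩ := isParams_T hfR hn'
  have : IsDomain (MvPolynomial (Fin r) R ⧸ ker fR n') := CAlg1.isDomain_regular _
  have := KummerAlg84.finite (a := fR) hn'
  have hinjK' : Function.Injective (algebraMap R (MvPolynomial (Fin r) R ⧸ ker fR n')) := injective_algebraMap hn'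
  obtain ⟨P, _, hP1, hpP, hht⟩ := exists_prime_over (K' := MvPolynomial (Fin r) R ⧸ ker fR n') hinjK' hAR hpm hp0
  obtain ⟨ψ', hψ'a, hψ'T, hψ'inj⟩ :
      ∃ ψ' : (MvPolynomial (Fin r) R ⧸ ker fR n') →+* N', (∀ c, ψ' (algebraMap R _ c) = gN' c) ∧
        (∀ j, ψ' (KummerAlg84.T fR n' j) = zN' j) ∧ Function.Injective ψ' :=
    ⟨rootHom fR n' gN' zN' hzN', rootHom_algebraMap fR n' gN' zN' hzN', rootHom_T fR n' gN' zN' hzN',
      rootHom_injective hfR hn' gN' hgN'inj zN' hzN'⟩
  have hχN : ∀ a, χN (algebraMap A B a) = algebraMap N' N (ψ'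
      (((algebraMap R (MvPolynomial (Fin r) R ⧸ ker fR n')).comp (algebraMap A R)) a)) := fun a => by
    rw [RingHom.comp_apply, hψ'a]
    exact Subtype.ext ((hχ a).trans (hcoe (gN' (algebraMap A R a))).symm)
  obtain ⟨gD, hgD, htame'⟩ := tame_at_prime (f := f) AF B hf htame P hP1
    ((algebraMap R (MvPolynomial (Fin r) R ⧸ ker fR n')).comp (algebraMap A R))
    (by rw [RingHom.coe_comp]; exact Function.Injective.comp hinjK' hAR) hht
    ψ' hψ'inj
    (EtRam26.frac_of_gen ψ' (Set.range gN' ∪ Set.range zN') (by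
      rintro x (⟨a, rfl⟩ | ⟨j, rfl⟩)
      · exact ⟨algebraMap R _ a, 1, by rw [map_one]; exact one_ne_zero, by rw [map_one, mul_one, hψ'a]⟩
      · exact ⟨KummerAlg84.T fR n' j, 1, by rw [map_one]; exact one_ne_zero, by rw [map_one, mul_one, hψ'T]⟩) hN'gen)
    χN hχN hgen2
  have hzw : ∀ j, wN' j ^ n' j = gN (algebraMap A R (f j)) := fun j => Subtype.ext (hz' j)
  have hgag : ∀ c, algebraMap N' N (gN' c) = gN c := fun c => Subtype.ext rfl
  have hgaz : ∀ j, algebraMap N' N (zN' j) = wN' j := fun j => Subtype.ext rfl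
  have hwi : wN' i = wN i ^ p := Subtype.ext (show z' i = z i ^ p by rw [hzi, hy])
  have hwne : ∀ j, j ≠ i → wN' j = wN j := fun j hj => Subtype.ext (hzne j hj).symm
  refine not_tame_step (i := i) hfR hn' hp P hP1 hpP gN hgNinj wN wN' hwi hwne hzw hNgen gD ?_ htame'
  rw [hgD]
  refine Ideal.Quotient.ringHom_ext (MvPolynomial.ringHom_ext (fun c => ?_) fun j => ?_)
  · refine (congrArg (algebraMap N' N) (hψ'a c)).trans ((hgag c).trans ?_)
    exact (rootHom_algebraMap fR n' gN wN' hzw c).symm
  · refine (congrArg (algebraMap N' N) (hψ'T j)).trans ((hgaz j).trans ?_)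
    exact (rootHom_T fR n' gN wN' hzw j).symm

include f AF in
/-- The exponents can be made invertible. -/
theorem exists_lives_unit (hf : IsParams f) (htame : SGA1.IsTameAlong f (algebraMap A B))
    {R : Type u} [CommRing R] [IsRegularLocalRing R] [IsDomain R] [Algebra A R] [Module.Flat A R]
    [IsLocalHom (algebraMap A R)] (hAR : Function.Injective (algebraMap A R))
    (hfR : IsParams fun i => algebraMap A R (f i)) (n : Fin r → ℕ) (hn : ∀ i, 1 ≤ n i)
    (hne : ∀ i, (n i : A) ≠ 0) (h : Lives (R := R) f B n) :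
    ∃ m : Fin r → ℕ, (∀ i, 1 ≤ m i) ∧ (∀ i, IsUnit (m i : A)) ∧ Lives (R := R) f B m := by
  classical
  induction hs : ∑ i, n i using Nat.strong_induction_on generalizing n with
  | _ k ih =>
  by_cases hu : ∀ i, IsUnit (n i : A)
  · exact ⟨n, hn, hu, h⟩
  push_neg at hu
  obtain ⟨i, hi⟩ := hu
  obtain ⟨p, hpc⟩ := CharP.exists (ResidueField A)
  have h0 : ((n i : ℕ) : ResidueField A) = 0 := by
    rw [← map_natCast (residue A), residue_eq_zero_iff]
    exact hi
  have hdvd : p ∣ n i := (CharP.cast_eq_zero_iff (ResidueField A) p _).mp h0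
  have hp : p.Prime := (CharP.char_is_prime_or_zero (ResidueField A) p).resolve_right fun hp0 => by
    subst hp0
    exact absurd (Nat.eq_zero_of_zero_dvd hdvd) (Nat.one_le_iff_ne_zero.mp (hn i))
  obtain ⟨c, hc⟩ := hdvd
  have hc1 : 1 ≤ c := Nat.one_le_iff_ne_zero.mpr fun h0 => by
    have := hn i
    rw [hc, h0, mul_zero] at this
    omega
  let n' := Function.update n i c
  have hn'1 : ∀ j, 1 ≤ n' j := fun j => by
    rcases eq_or_ne j i with rfl | hj
    · simpa [n'] using hc1
    · simpa [n', Function.update_of_ne hj] using hn j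
  have hne' : ∀ j, (n' j : A) ≠ 0 := fun j => by
    rcases eq_or_ne j i with rfl | hj
    · intro h1
      refine hne j ?_
      rw [hc, Nat.cast_mul]
      simp only [n', Function.update_self] at h1
      rw [h1, mul_zero]
    · simpa [n', Function.update_of_ne hj] using hne j
  have hpm : (p : A) ∈ maximalIdeal A := by
    rw [← residue_eq_zero_iff, map_natCast]
    exact CharP.cast_eq_zero _ p
  have hp0 : (p : A) ≠ 0 := fun h1 => hne i (by rw [hc, Nat.cast_mul, h1, zero_mul])
  have he : Function.update n' i (n' i * p) = n := by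
    funext j
    rcases eq_or_ne j i with rfl | hj
    · simp [n', hc, mul_comm]
    · simp [n', Function.update_of_ne hj]
  have hlt : ∑ j, n' j < k := by
    rw [← hs]
    refine Finset.sum_lt_sum (fun j _ => ?_) ⟨i, Finset.mem_univ i, ?_⟩
    · rcases eq_or_ne j i with rfl | hj
      · simp only [n', Function.update_self, hc]
        exact Nat.le_mul_of_pos_left c hp.pos
      · simp [n', Function.update_of_ne hj]
    · simp only [n', Function.update_self, hc]
      exact (Nat.lt_mul_iff_one_lt_left hc1).mpr hp.one_lt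
  exact ih _ hlt n' hn'1 hne' (lives_step AF B hf htame hAR hfR hn'1 hp hpm hp0 i (he.symm ▸ h)) rfl

end Groth.Agent.Abh84
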