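import Groth.Agent.EtRam26.Unr
import Groth.Agent.Pure83.BranchRegular
import Mathlib.RingTheory.Etale.Field
import Mathlib.RingTheory.Localization.Integral
import Mathlib.RingTheory.Ideal.GoingDown
import Mathlib.RingTheory.DedekindDomain.IntegralClosure

/-!
# An étale algebra over the fraction field, unramified in codimension one, has étale integral closure
-/

set_option autoImplicit false
universe u

open IsLocalRing

namespace Groth.Agent.Abh84

variable {K : Type u} [CommRing K] [IsRegularLocalRing K] [IsDomain K]
  (S : Type u) [Field S] [Algebra K S] [IsFractionRing K S]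

set_option backward.isDefEq.respectTransparency.types false in
/-- The case of a field extension. -/
theorem etale_integralClosure_field (L : Type u) [Field L] [Algebra S L] [Algebra K L] [IsScalarTower K S L]
    [FiniteDimensional S L] [Algebra.IsSeparable S L]
    (h : ∀ (P : Ideal K) [P.IsPrime], P.height = 1 → ∀ (g : Localization.AtPrime P →+* L),
      g.comp (algebraMap K _) = algebraMap K L → ∀ V (hV : EtRam.Dominates _ g V),
        EtRam26.RamHom (g.codRestrict V hV.1) 1) :
    Module.Finite K (integralClosure K L) ∧ Algebra.Etale K (integralClosure K L) := by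
  have hIC : IsIntegrallyClosed K := CAlg6.isIntegrallyClosed_of_regular K
  let C := integralClosure K L
  have hfin : Module.Finite K C := IsIntegralClosure.finite K S L C
  refine ⟨hfin, ?_⟩
  have hKL : Function.Injective (algebraMap K L) := by
    rw [IsScalarTower.algebraMap_eq K S L]
    exact (algebraMap S L).injective.comp (IsFractionRing.injective K S)
  have hinj : Function.Injective (algebraMap K C) := fun a b hab => hKL (congrArg Subtype.val hab)
  have : IsIntegrallyClosed C := integralClosure.isIntegrallyClosedOfFiniteExtension S
  have : FaithfulSMul K C := (faithfulSMul_iff_algebraMap_injective K C).mpr hinj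
  have : IsNoetherianRing C := IsNoetherianRing.of_finite K C
  have : IsFractionRing C L := integralClosure.isFractionRing_of_finite_extension S L
  by_cases hd : (1 : WithBot ℕ∞) ≤ ringKrullDim K
  swap
  · have hf : IsField K := by
      rw [IsLocalRing.isField_iff_maximalIdeal_eq, ← Ideal.height_eq_zero_iff_eq_bot]
      by_contra hne
      refine hd ?_
      rw [← IsLocalRing.maximalIdeal_height_eq_ringKrullDim]
      exact WithBot.coe_le_coe.mpr (Order.one_le_iff_pos.mpr (pos_iff_ne_zero.mpr hne))
    let := hf.toField
    have : Function.Bijective (algebraMap K S) :=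
      ⟨IsFractionRing.injective K S, fun x => by
        obtain ⟨a, b, hb, rfl⟩ := IsFractionRing.div_surjective (A := K) x
        exact ⟨a / b, map_div₀ _ _ _⟩⟩
    have : Algebra.IsSeparable K L := Algebra.IsSeparable.of_equiv_equiv
      (RingEquiv.ofBijective _ this).symm (RingEquiv.refl L) (RingHom.ext fun x => by
        show algebraMap K L ((RingEquiv.ofBijective _ this).symm x) = algebraMap S L x
        rw [IsScalarTower.algebraMap_apply K S L]
        exact congrArg _ ((RingEquiv.ofBijective _ this).apply_symm_apply x))
    have hb : Function.Bijective C.val :=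
      ⟨Subtype.val_injective, fun x => ⟨⟨x, Algebra.IsIntegral.isIntegral (R := K) x⟩, rfl⟩⟩
    have : Module.Finite K L := Module.Finite.equiv (AlgEquiv.ofBijective C.val hb).toLinearEquiv
    have : Algebra.FormallyEtale K L := (Algebra.FormallyEtale.iff_isSeparable K L).mpr inferInstance
    exact ⟨Algebra.FormallyEtale.of_equiv (AlgEquiv.ofBijective C.val hb).symm,
      Algebra.FinitePresentation.of_finiteType.mp inferInstance⟩
  refine Pure83.etale_of_regular_codim_one hd hinj fun Q hQp hQ => ?_
  let P := Q.comap (algebraMap K C)
  have hP : P.height = 1 := (Pure83.height_comap_of_flat_quasiFinite Q).symm.trans hQ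
  let O := Localization.AtPrime P
  have : IsRegularLocalRing O := CAlg1.regular_localization K P
  have : IsDomain O := IsLocalization.isDomain_localization P.primeCompl_le_nonZeroDivisors
  have hO1 : ringKrullDim O = 1 := by rw [IsLocalization.AtPrime.ringKrullDim_eq_height P, hP]; rfl
  have hOnf : ¬ IsField O := fun hf => by
    rw [ringKrullDim_eq_zero_of_isField hf] at hO1
    exact absurd hO1 (by decide)
  have : IsDiscreteValuationRing O := by
    refine ((IsDiscreteValuationRing.TFAE O hOnf).out 4 0).mp ?_
    have hs := IsRegularLocalRing.spanFinrank_maximalIdeal (R := O)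
    rw [hO1, show (1 : WithBot ℕ∞) = ((1 : ℕ) : WithBot ℕ∞) from rfl, Nat.cast_inj] at hs
    exact ((Submodule.spanFinrank_eq_one_iff _).mp hs).1
  let : Algebra O S := IsLocalization.localizationAlgebraOfSubmonoidLe O S P.primeCompl (nonZeroDivisors K)
    P.primeCompl_le_nonZeroDivisors
  have : IsScalarTower K O S := IsLocalization.localization_isScalarTower_of_submonoid_le O S P.primeCompl
    (nonZeroDivisors K) P.primeCompl_le_nonZeroDivisors
  have : IsFractionRing O S := IsFractionRing.isFractionRing_of_isDomain_of_isLocalization P.primeCompl O S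
  let : Algebra O L := ((algebraMap S L).comp (algebraMap O S)).toAlgebra
  have : IsScalarTower O S L := .of_algebraMap_eq fun _ => rfl
  have : IsScalarTower K O L := .of_algebraMap_eq fun k => by
    show _ = algebraMap S L (algebraMap O S _)
    rw [← IsScalarTower.algebraMap_apply K O S, ← IsScalarTower.algebraMap_apply K S L]
  let D := integralClosure O L
  have : Module.Finite O D := IsIntegralClosure.finite O S L D
  have : IsDedekindDomain D := integralClosure.isDedekindDomain O S L
  have : IsFractionRing D L := integralClosure.isFractionRing_of_finite_extension S L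
  have hOL : Function.Injective (algebraMap O L) :=
    (algebraMap S L).injective.comp (IsFractionRing.injective O S)
  have : Algebra.FormallyUnramified O D := EtRam26.formallyUnramified_of_forall
    (L := L) D.val.toRingHom (algebraMap O L) rfl Subtype.val_injective hOL
    (fun y => by
      obtain ⟨a, b, hb, rfl⟩ := IsFractionRing.div_surjective (A := D) y
      have hb0 : (b : L) ≠ 0 := fun h0 => nonZeroDivisors.ne_zero hb (Subtype.ext h0)
      exact ⟨a, b, hb0, div_mul_cancel₀ (a : L) hb0⟩)
    fun V hV => h P hP (algebraMap O L) (IsScalarTower.algebraMap_eq K O L).symm V hV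
  let M := Algebra.algebraMapSubmonoid C P.primeCompl
  let φ : C →+* D := C.val.toRingHom.codRestrict D.toSubring fun c =>
    IsIntegral.tower_top (R := K) (A := O) c.2
  let : Algebra C D := φ.toAlgebra
  have : IsScalarTower C D L := .of_algebraMap_eq fun _ => rfl
  have : IsScalarTower K C D := .of_algebraMap_eq fun _ => rfl
  have : IsLocalization (Algebra.algebraMapSubmonoid L P.primeCompl) L := by
    refine IsLocalization.self ?_
    rintro _ ⟨a, ha, rfl⟩
    exact IsUnit.mk0 _ ((map_ne_zero_iff _ hKL).mpr fun h0 => ha (h0 ▸ P.zero_mem))
  have hDloc : IsLocalization M D := IsLocalization.integralClosure (S := L) P.primeCompl (Rf := O) (Sf := L)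
  have hdisj : Disjoint (M : Set C) Q := by
    rw [Set.disjoint_left]
    rintro _ ⟨a, ha, rfl⟩ haQ
    exact ha haQ
  let q := Q.map (algebraMap C D)
  have : q.IsPrime := IsLocalization.isPrime_of_isPrime_disjoint M D Q hQp hdisj
  have hqc : q.comap (algebraMap C D) = Q := IsLocalization.under_map_of_isPrime_disjoint M D hQp hdisj
  have : Algebra.FormallyUnramified K O := .of_isLocalization P.primeCompl
  have : IsScalarTower K O D := .of_algebraMap_eq fun k => Subtype.ext (IsScalarTower.algebraMap_apply K O L k)
  have : Algebra.FormallyUnramified K D := .comp K O D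
  have : Algebra.FormallyUnramified D (Localization.AtPrime q) := .of_isLocalization q.primeCompl
  have : Algebra.FormallyUnramified K (Localization.AtPrime q) := .comp K D _
  have : IsLocalization.AtPrime (Localization.AtPrime q) Q := by
    have hloc := IsLocalization.isLocalization_isLocalization_atPrime_isLocalization M
      (Localization.AtPrime q) q
    have hpc : (q.comap (algebraMap C D)).primeCompl = Q.primeCompl :=
      Submonoid.ext fun x => not_congr (SetLike.ext_iff.mp hqc x)
    show IsLocalization Q.primeCompl _
    rw [← hpc]
    exact hloc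
  have : IsScalarTower K C (Localization.AtPrime q) := IsScalarTower.of_algebraMap_eq fun k => by
    rw [IsScalarTower.algebraMap_apply C D (Localization.AtPrime q), ← IsScalarTower.algebraMap_apply K C D,
      ← IsScalarTower.algebraMap_apply K D]
  exact Algebra.FormallyUnramified.of_equiv (R := K) (A := Localization.AtPrime q) ((IsLocalization.algEquiv Q.primeCompl
    (Localization.AtPrime q) (Localization.AtPrime Q)).restrictScalars K)

/-- The general case. -/
theorem etale_integralClosure (E : Type u) [CommRing E] [Algebra S E] [Algebra K E] [IsScalarTower K S E]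
    [Module.Finite S E] [Algebra.Etale S E]
    (h : ∀ (P : Ideal K) [P.IsPrime], P.height = 1 → ∀ (L : Type u) [Field L] (ψ : E →+* L),
      Function.Surjective ψ → ∀ (g : Localization.AtPrime P →+* L),
      g.comp (algebraMap K _) = ψ.comp (algebraMap K E) → ∀ V (hV : EtRam.Dominates _ g V),
        EtRam26.RamHom (g.codRestrict V hV.1) 1) :
    Module.Finite K (integralClosure K E) ∧ Algebra.Etale K (integralClosure K E) := by
  obtain ⟨I, hI, Ai, hF, hA, e, hsep⟩ := (Algebra.FormallyEtale.iff_exists_algEquiv_prod S E).mp inferInstance
  let := hF
  let := hA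
  let hKA : ∀ i, Algebra K (Ai i) := fun i => ((algebraMap S (Ai i)).comp (algebraMap K S)).toAlgebra
  have : ∀ i, IsScalarTower K S (Ai i) := fun i => .of_algebraMap_eq fun _ => rfl
  let p : ∀ i, E →ₐ[S] Ai i := fun i => (Pi.evalAlgHom S Ai i).comp e.toAlgHom
  have hp : ∀ i, Function.Surjective (p i) := fun i => by
    classical
    exact fun a => ⟨e.symm (Pi.single i a), by simp [p]⟩
  have : ∀ i, FiniteDimensional S (Ai i) := fun i => Module.Finite.of_surjective (p i).toLinearMap (hp i)
  have hC : ∀ i, Module.Finite K (integralClosure K (Ai i)) ∧ Algebra.Etale K (integralClosure K (Ai i)) :=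
    fun i => by
      have := hsep i
      refine etale_integralClosure_field S (Ai i) fun P _ hP g hg V hV =>
        h P hP (Ai i) (p i).toRingHom (hp i) g (hg.trans (RingHom.ext fun k => ?_)) V hV
      show _ = p i (algebraMap K E k)
      rw [IsScalarTower.algebraMap_apply K S E, (p i).commutes]
      rfl
  have : ∀ i, Module.Finite K (integralClosure K (Ai i)) := fun i => (hC i).1
  have : ∀ i, Algebra.Etale K (integralClosure K (Ai i)) := fun i => (hC i).2
  let inc : (∀ i, integralClosure K (Ai i)) →ₐ[K] ∀ i, Ai i :=
    AlgHom.pi fun i => (integralClosure K (Ai i)).val.comp (Pi.evalAlgHom K (fun i => integralClosure K (Ai i)) i)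
  let Φ : integralClosure K E →ₐ[K] (∀ i, integralClosure K (Ai i)) :=
    AlgHom.pi fun i => (((p i).restrictScalars K).comp (integralClosure K E).val).codRestrict
      (integralClosure K (Ai i)) fun c => IsIntegral.map ((p i).restrictScalars K) c.2
  have hΦ : Function.Bijective Φ := by
    refine ⟨fun a b hab => Subtype.ext (e.injective (funext fun i => congrArg (fun z => (z i : Ai i)) hab)),
      fun z => ⟨⟨e.symm fun i => z i, ?_⟩, funext fun i => Subtype.ext ?_⟩⟩
    · exact ((IsIntegral.of_finite K z).map inc).map ((e.symm : (∀ i, Ai i) →ₐ[S] E).restrictScalars K)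
    · exact congr_fun (e.apply_symm_apply _) i
  let Ψ := AlgEquiv.ofBijective Φ hΦ
  have hfin : Module.Finite K (integralClosure K E) := Module.Finite.equiv Ψ.symm.toLinearEquiv
  refine ⟨hfin, ?_⟩
  exact Algebra.Etale.of_equiv Ψ.symm

end Groth.Agent.Abh84
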