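import Groth.Agent.Abh84.CoverBasic
import Groth.Agent.Abh84.EtaleClosure
import Groth.Agent.Sga84.SplitEtale
import Groth.Agent.S14620

/-!
# After extracting roots of the parameters the cover has étale normalization
-/

set_option autoImplicit false
universe u

open IsLocalRing Polynomial TensorProduct

namespace Groth.Agent.Abh84

open Groth.Agent.KummerAlg84

variable {A : Type u} [CommRing A] [IsRegularLocalRing A] [IsDomain A] {r : ℕ} {f : Fin r → A}
  [∀ i, (Ideal.span {f i}).IsPrime]
  (AF : Type u) [CommRing AF] [Algebra A AF] [IsLocalization.Away (∏ i, f i) AF]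
  (B : Type u) [CommRing B] [Algebra AF B] [Algebra A B] [IsScalarTower A AF B]
  [Module.Finite AF B] [Algebra.Etale AF B]

set_option backward.isDefEq.respectTransparency.types false in
include f AF in
/-- At a height one prime of the Kummer algebra the fields over the cover are unramified. -/
theorem ram_one_at_prime (hf : IsParams f) {n : Fin r → ℕ} (hn : ∀ i, 1 ≤ n i) (hne : ∀ i, (n i : A) ≠ 0)
    (hdiv : DivAt (f := f) B n) {K : Type u} [CommRing K] [IsRegularLocalRing K] [IsDomain K] [Algebra A K]
    [Module.Finite A K] (hinjK : Function.Injective (algebraMap A K)) (T : Fin r → K)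
    (hT : ∀ i, T i ^ n i = algebraMap A K (f i)) (P : Ideal K) [P.IsPrime] (hP : P.height = 1)
    {L : Type u} [Field L] (g : Localization.AtPrime P →+* L) (hg : Function.Injective g) (χ : B →+* L)
    (hcomm : ∀ a, χ (algebraMap A B a) = g (algebraMap _ _ (algebraMap A K a)))
    (hgen : Subfield.closure (Set.range g ∪ Set.range χ) = ⊤)
    (V : ValuationSubring L) (hV : EtRam.Dominates (Localization.AtPrime P) g V) :
    EtRam26.RamHom (R := Localization.AtPrime P) (S := ↥V) (g.codRestrict V hV.1) 1 := by
  classical
  let KP := Localization.AtPrime P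
  have : IsDomain KP := IsLocalization.isDomain_localization P.primeCompl_le_nonZeroDivisors
  have : IsRegularLocalRing KP := CAlg1.regular_localization K P
  have hKP1 : ringKrullDim KP = 1 := by rw [IsLocalization.AtPrime.ringKrullDim_eq_height P, hP]; rfl
  have hKPnf : ¬ IsField KP := fun h => by
    rw [ringKrullDim_eq_zero_of_isField h] at hKP1
    exact absurd hKP1 (by decide)
  have : IsDiscreteValuationRing KP := by
    refine ((IsDiscreteValuationRing.TFAE KP hKPnf).out 4 0).mp ?_
    have hs := IsRegularLocalRing.spanFinrank_maximalIdeal (R := KP)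
    rw [hKP1, show (1 : WithBot ℕ∞) = ((1 : ℕ) : WithBot ℕ∞) from rfl, Nat.cast_inj] at hs
    exact ((Submodule.spanFinrank_eq_one_iff _).mp hs).1
  let δ : A →+* L := (g.comp (algebraMap K KP)).comp (algebraMap A K)
  have hKK : Function.Injective (algebraMap K KP) := IsLocalization.injective KP P.primeCompl_le_nonZeroDivisors
  have hδ : Function.Injective δ := hg.comp (hKK.comp hinjK)
  by_cases hF : algebraMap A K (∏ i, f i) ∈ P
  swap
  · -- away from the divisor
    let j : AF →+* KP := IsLocalization.Away.lift (∏ i, f i)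
      (g := (algebraMap K KP).comp (algebraMap A K)) (IsLocalization.map_units KP (⟨_, hF⟩ : P.primeCompl))
    have hj : ∀ a, j (algebraMap A AF a) = algebraMap K KP (algebraMap A K a) := fun a =>
      IsLocalization.Away.lift_eq _ _ a
    refine (EtRam26.ramHom_one_of_baseChange (A := AF) (D := B) j g χ ?_ hg (Set.range g) ?_ hgen V hV).2
    · refine IsLocalization.ringHom_ext (Submonoid.powers (∏ i, f i)) (RingHom.ext fun a => ?_)
      show χ (algebraMap AF B (algebraMap A AF a)) = g (j (algebraMap A AF a))
      rw [← IsScalarTower.algebraMap_apply A AF B, hj, hcomm]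
    · rintro _ ⟨a, rfl⟩
      exact ⟨a, 1, by simp, by simp⟩
  -- over the divisor
  obtain ⟨i, hi⟩ : ∃ i, algebraMap A K (f i) ∈ P := by
    rw [map_prod, Ideal.IsPrime.prod_mem_iff] at hF
    obtain ⟨i, -, hi⟩ := hF
    exact ⟨i, hi⟩
  let P₀ := Ideal.span {f i}
  have hPA : P.comap (algebraMap A K) = P₀ := by
    have : IsIntegrallyClosed A := CAlg6.isIntegrallyClosed_of_regular A
    have : Algebra.IsIntegral A K := Algebra.IsIntegral.of_finite A K
    have : FaithfulSMul A K := (faithfulSMul_iff_algebraMap_injective A K).mpr hinjK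
    have hh : (P.comap (algebraMap A K)).height = 1 :=
      (Pure83.height_comap_of_flat_quasiFinite P).symm.trans hP
    refine le_antisymm ?_ ((Ideal.span_singleton_le_iff_mem _).mpr hi)
    by_contra hnle
    have hlt : P₀ < P.comap (algebraMap A K) :=
      lt_of_le_of_ne ((Ideal.span_singleton_le_iff_mem _).mpr hi) fun h => hnle h.ge
    have h1 := Ideal.height_strict_mono_of_isPrime hlt
    have h2 := Ideal.height_strict_mono_of_isPrime
      (show (⊥ : Ideal A) < P₀ from bot_lt_iff_ne_bot.mpr (mt Ideal.span_singleton_eq_bot.mp (hf.ne_zero i)))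
    rw [Ideal.height_bot] at h2
    exact absurd (hh.le.trans (Order.one_le_iff_pos.mpr h2)) (not_le.mpr h1)
  let A₁ := Localization.AtPrime P₀
  obtain ⟨hdom, hdvr, hπ, hinj₁⟩ := isDVR_localization (hf.ne_zero i)
  let j₁ : A₁ →+* KP := IsLocalization.lift (M := P₀.primeCompl) (g := (algebraMap K KP).comp (algebraMap A K))
    fun a => IsLocalization.map_units KP (⟨algebraMap A K a, fun h => a.2 (hPA.le h)⟩ : P.primeCompl)
  have hj₁ : ∀ a, j₁ (algebraMap A A₁ a) = algebraMap K KP (algebraMap A K a) := fun a =>
    IsLocalization.lift_eq _ a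
  let π : A₁ := algebraMap A A₁ (f i)
  let j : AdjoinRoot (X ^ n i - Polynomial.C π : A₁[X]) →+* KP :=
    AdjoinRoot.lift j₁ (algebraMap K KP (T i)) (by
      simp only [eval₂_sub, eval₂_X_pow, eval₂_C, π, hj₁, ← map_pow, hT, sub_self])
  -- the generic point
  let q := RingHom.ker χ
  have : q.IsPrime := RingHom.ker_isPrime χ
  have hq : q.comap (algebraMap A B) = ⊥ := by
    rw [eq_bot_iff]
    intro a ha
    exact hδ ((hcomm a).symm.trans (ha.trans (map_zero δ).symm))
  let ι : q.ResidueField →+* L := Ideal.ResidueField.lift q χ le_rfl fun b hb => IsUnit.mk0 _ hb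
  have hι : ∀ b, ι (algebraMap B q.ResidueField b) = χ b := fun b =>
    Ideal.ResidueField.lift_algebraMap _ _ _ _ b
  let g₁ := SGA1.genericResidueMap (algebraMap A B) P₀ q hq
  obtain ⟨hfd, hsep⟩ := residueField_finite_separable (f := f) AF B q hq
  let KA := FractionRing A
  let : Algebra A₁ KA := IsLocalization.localizationAlgebraOfSubmonoidLe A₁ KA P₀.primeCompl
    (nonZeroDivisors A) P₀.primeCompl_le_nonZeroDivisors
  have : IsScalarTower A A₁ KA := IsLocalization.localization_isScalarTower_of_submonoid_le A₁ KA
    P₀.primeCompl (nonZeroDivisors A) P₀.primeCompl_le_nonZeroDivisors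
  have : IsFractionRing A₁ KA :=
    IsFractionRing.isFractionRing_of_isDomain_of_isLocalization P₀.primeCompl A₁ KA
  let : Algebra KA q.ResidueField :=
    (IsFractionRing.lift (K := KA) (generic_injective (algebraMap A B) q hq)).toAlgebra
  let : Algebra A₁ q.ResidueField := g₁.toAlgebra
  have : IsScalarTower A₁ KA q.ResidueField := .of_algebraMap_eq' (IsLocalization.ringHom_ext
    P₀.primeCompl (RingHom.ext fun a => by
      show g₁ (algebraMap A A₁ a) = algebraMap KA q.ResidueField (algebraMap A₁ KA (algebraMap A A₁ a))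
      rw [genericResidueMap_algebraMap, ← IsScalarTower.algebraMap_apply A A₁ KA]
      exact (IsFractionRing.lift_algebraMap (generic_injective (algebraMap A B) q hq) a).symm))
  have hcompat : ι.comp g₁ = g.comp j₁ := IsLocalization.ringHom_ext P₀.primeCompl (RingHom.ext fun a => by
    show ι (g₁ (algebraMap A A₁ a)) = g (j₁ (algebraMap A A₁ a))
    rw [genericResidueMap_algebraMap, hι, hj₁, hcomm])
  let : Algebra q.ResidueField L := ι.toAlgebra
  let z : L := g (algebraMap K KP (T i))
  have hzpow : z ^ n i = ι (g₁ π) := by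
    rw [← RingHom.comp_apply ι, hcompat, RingHom.comp_apply]
    simp only [z, π, hj₁, ← map_pow, hT]
  have hg₁π : g₁ π ≠ 0 := by
    rw [genericResidueMap_algebraMap]
    exact fun h0 => hf.ne_zero i (generic_injective (algebraMap A B) q hq (h0.trans (map_zero _).symm))
  have hnκ : (n i : q.ResidueField) ≠ 0 := fun h0 => hne i (generic_injective (algebraMap A B) q hq (by
    rw [map_natCast, map_zero]; exact h0))
  have haev : aeval z (X ^ n i - Polynomial.C (g₁ π) : q.ResidueField[X]) = 0 := by
    rw [map_sub, map_pow, aeval_X, aeval_C, hzpow]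
    exact sub_self _
  have hzint : IsIntegral q.ResidueField z :=
    ⟨_, monic_X_pow_sub_C _ (Nat.one_le_iff_ne_zero.mp (hn i)), haev⟩
  have hzsep : IsSeparable q.ResidueField z :=
    (Polynomial.separable_X_pow_sub_C _ hnκ hg₁π).of_dvd (minpoly.dvd _ z haev)
  let M := IntermediateField.adjoin q.ResidueField ({z} : Set L)
  have : FiniteDimensional q.ResidueField M := IntermediateField.adjoin.finiteDimensional hzint
  have : Algebra.IsSeparable q.ResidueField M :=
    (IntermediateField.isSeparable_adjoin_simple_iff_isSeparable q.ResidueField L).mpr hzsep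
  let z' : M := ⟨z, IntermediateField.mem_adjoin_simple_self _ z⟩
  let φ : AdjoinRoot (X ^ n i - Polynomial.C π : A₁[X]) →+* M :=
    AdjoinRoot.lift ((algebraMap q.ResidueField M).comp g₁) z' (by
      simp only [eval₂_sub, eval₂_X_pow, eval₂_C]
      exact sub_eq_zero.mpr (Subtype.ext hzpow))
  have hφ : φ.comp (AdjoinRoot.of _) = (algebraMap q.ResidueField M).comp (algebraMap A₁ q.ResidueField) :=
    AdjoinRoot.lift_comp_of _
  have hgenM : Subfield.closure (Set.range (algebraMap q.ResidueField M) ∪ {φ (AdjoinRoot.root _)}) = ⊤ := by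
    rw [show φ (AdjoinRoot.root _) = z' from AdjoinRoot.lift_root _]
    refine top_le_iff.mp fun x _ => ?_
    let N := Subfield.toIntermediateField (K := q.ResidueField)
      (Subfield.closure (Set.range (algebraMap q.ResidueField M) ∪ {z'}))
      fun l => Subfield.subset_closure (Or.inl ⟨l, rfl⟩)
    have hle : IntermediateField.adjoin q.ResidueField ({z} : Set L) ≤ N.map M.val := by
      rw [IntermediateField.adjoin_simple_le_iff]
      exact ⟨z', Subfield.subset_closure (Or.inr rfl), rfl⟩
    obtain ⟨y, hy, hyx⟩ := hle x.2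
    rwa [← show y = x from Subtype.ext hyx]
  obtain ⟨hdomA', hdvrA', -, -⟩ := EtRam26.eisenstein_root hπ (hn i)
  obtain ⟨hφinj, hunr⟩ := EtRam26.unramified_of_root (K := KA) (algebraMap q.ResidueField M) hπ (hn i)
    (fun V' hV' => hdiv i q hq V' hV') φ hφ hgenM
  let : Algebra KA M := ((algebraMap q.ResidueField M).comp (algebraMap KA q.ResidueField)).toAlgebra
  have : IsScalarTower KA q.ResidueField M := .of_algebraMap_eq fun _ => rfl
  have : FiniteDimensional KA M := FiniteDimensional.trans KA q.ResidueField M
  have : Algebra.IsSeparable KA M := Algebra.IsSeparable.trans KA q.ResidueField M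
  let : Algebra A₁ M := ((algebraMap q.ResidueField M).comp g₁).toAlgebra
  have : IsScalarTower A₁ KA M := .of_algebraMap_eq fun a => by
    show algebraMap q.ResidueField M (g₁ a) = algebraMap q.ResidueField M (algebraMap KA q.ResidueField (algebraMap A₁ KA a))
    rw [← IsScalarTower.algebraMap_apply A₁ KA q.ResidueField]
    rfl
  let : Algebra (AdjoinRoot (X ^ n i - Polynomial.C π : A₁[X])) M := φ.toAlgebra
  have : IsScalarTower A₁ (AdjoinRoot (X ^ n i - Polynomial.C π : A₁[X])) M :=
    IsScalarTower.of_algebraMap_eq (R := A₁) (S := AdjoinRoot (X ^ n i - Polynomial.C π : A₁[X])) (A := M)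
      fun a => (RingHom.congr_fun hφ a).symm
  have : Module.Finite A₁ (AdjoinRoot (X ^ n i - Polynomial.C π : A₁[X])) :=
    (monic_X_pow_sub_C π (Nat.one_le_iff_ne_zero.mp (hn i))).finite_adjoinRoot
  obtain ⟨D, _, _, ψD, hDfin, hDunr, hψD, hDfrac⟩ := EtRam26.exists_unramified_model (A := A₁) (K := KA)
    (A' := AdjoinRoot (X ^ n i - Polynomial.C π : A₁[X])) (L' := M) hφinj hunr
  refine (EtRam26.ramHom_one_of_baseChange (D := D) j g (M.val.toRingHom.comp ψD) ?_ hg (Set.range g) ?_ ?_ V hV).2
  · rw [RingHom.comp_assoc, hψD]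
    have h2 : ∀ x, (φ x : L) = g (j x) := RingHom.congr_fun (show M.val.toRingHom.comp φ = g.comp j from by
      refine RingHom.ext fun x => ?_
      induction x using AdjoinRoot.induction_on with
      | _ p =>
        induction p using Polynomial.induction_on' with
        | add p q hp hq => simp only [map_add, hp, hq]
        | monomial k a =>
          rw [← Polynomial.C_mul_X_pow_eq_monomial]
          simp only [map_mul, map_pow, AdjoinRoot.mk_C, AdjoinRoot.mk_X, RingHom.comp_apply, φ, j,
            AdjoinRoot.lift_of, AdjoinRoot.lift_root]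
          rw [show g (j₁ a) = ι (g₁ a) from (RingHom.congr_fun hcompat a).symm]
          rfl)
    exact RingHom.ext h2
  · rintro _ ⟨a, rfl⟩
    exact ⟨a, 1, by simp, by simp⟩
  · rw [eq_top_iff, ← hgen, Subfield.closure_le]
    have hMle : ∀ y : M, (y : L) ∈ Subfield.closure (Set.range g ∪ Set.range (M.val.toRingHom.comp ψD)) := by
      intro y
      obtain ⟨a, b, hb, hab⟩ := hDfrac y
      have : (y : L) = (ψD a : L) / (ψD b : L) := by
        rw [eq_div_iff (fun h => hb (Subtype.ext h))]
        exact congrArg Subtype.val hab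
      rw [this]
      exact div_mem (Subfield.subset_closure (Or.inr ⟨a, rfl⟩)) (Subfield.subset_closure (Or.inr ⟨b, rfl⟩))
    rintro x (hx | ⟨b, rfl⟩)
    · exact Subfield.subset_closure (Or.inl hx)
    · rw [← hι b]
      exact hMle (algebraMap q.ResidueField M (algebraMap B q.ResidueField b))

set_option backward.isDefEq.respectTransparency.types false in
include f AF in
/-- The integral closure of the Kummer algebra in the cover is finite étale. -/
theorem exists_etale_model (hf : IsParams f) {n : Fin r → ℕ} (hn : ∀ i, 1 ≤ n i) (hne : ∀ i, (n i : A) ≠ 0)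
    (hdiv : DivAt (f := f) B n) {K : Type u} [CommRing K] [IsRegularLocalRing K] [IsDomain K] [Algebra A K]
    [Module.Finite A K] (hinjK : Function.Injective (algebraMap A K)) (T : Fin r → K)
    (hT : ∀ i, T i ^ n i = algebraMap A K (f i))
    (S : Type u) [Field S] [Algebra K S] [IsFractionRing K S]
    (E : Type u) [CommRing E] [Algebra S E] [Algebra K E] [IsScalarTower K S E] [Module.Finite S E]
    [Algebra.Etale S E] (ib : B →+* E)
    (hib : ∀ a, ib (algebraMap A B a) = algebraMap K E (algebraMap A K a))
    (hgenE : Algebra.adjoin S (Set.range ib) = ⊤) :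
    Module.Finite K (integralClosure K E) ∧ Algebra.Etale K (integralClosure K E) := by
  refine etale_integralClosure S E fun P _ hP L _ ψ hψ g hg V hV => ?_
  have hgK : ∀ k, g (algebraMap K _ k) = ψ (algebraMap K E k) := RingHom.congr_fun hg
  have hKS : ∀ k, algebraMap K E k = algebraMap S E (algebraMap K S k) := IsScalarTower.algebraMap_apply K S E
  have hgi : Function.Injective g := by
    rw [injective_iff_map_eq_zero]
    intro x hx
    obtain ⟨a, s, rfl⟩ := IsLocalization.exists_mk'_eq P.primeCompl x
    have h0 := congrArg g (IsLocalization.mk'_spec (Localization.AtPrime P) a s)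
    rw [map_mul, hx, zero_mul, hgK, hKS] at h0
    have h1 : algebraMap K S a = 0 := (ψ.comp (algebraMap S E)).injective (h0.symm.trans (map_zero _).symm)
    have h2 := IsFractionRing.injective K S (h1.trans (map_zero _).symm)
    rw [h2, IsLocalization.mk'_zero]
  refine ram_one_at_prime AF B hf hn hne hdiv hinjK T hT P hP g hgi (ψ.comp ib) (fun a => ?_) ?_ V hV
  · rw [hgK, RingHom.comp_apply, hib]
  · rw [eq_top_iff]
    intro x _
    obtain ⟨x, rfl⟩ := hψ x
    have hx : x ∈ Algebra.adjoin S (Set.range ib) := hgenE.ge Algebra.mem_top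
    induction hx using Algebra.adjoin_induction with
    | mem y hy =>
      obtain ⟨b, rfl⟩ := hy
      exact Subfield.subset_closure (Or.inr ⟨b, rfl⟩)
    | algebraMap s =>
      obtain ⟨a, c, hc, rfl⟩ := IsFractionRing.div_surjective (A := K) s
      rw [← RingHom.comp_apply ψ, map_div₀, RingHom.comp_apply, RingHom.comp_apply, ← hKS, ← hKS, ← hgK, ← hgK]
      exact div_mem (Subfield.subset_closure (Or.inl ⟨_, rfl⟩)) (Subfield.subset_closure (Or.inl ⟨_, rfl⟩))
    | add a b _ _ ha hb => rw [map_add]; exact add_mem (ha trivial) (hb trivial)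
    | mul a b _ _ ha hb => rw [map_mul]; exact mul_mem (ha trivial) (hb trivial)

end Groth.Agent.Abh84
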