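import Groth.Agent.Abh84.KummerReg
import Groth.Agent.S0537
import Groth.Agent.S0538
import Groth.Agent.S0539
import Groth.Agent.S0540
import Groth.Agent.S0541
import Mathlib.LinearAlgebra.Dimension.FreeAndStrongRankCondition

/-!
# Strict henselizations of regular local rings and parameters
-/

set_option autoImplicit false
universe u

open IsLocalRing

namespace Groth.Agent.Abh84

/-- A flat local extension with the same maximal ideal and dimension keeps parameters parameters. -/
theorem isParams_map {A R : Type u} [CommRing A] [IsRegularLocalRing A] [CommRing R] [IsLocalRing R]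
    [IsNoetherianRing R] [Algebra A R] (hmax : (maximalIdeal A).map (algebraMap A R) = maximalIdeal R)
    (hdim : ringKrullDim R = ringKrullDim A) {r : ℕ} {f : Fin r → A} (hf : IsParams f) :
    ∃ (_ : IsRegularLocalRing R), IsParams fun i => algebraMap A R (f i) := by
  classical
  obtain ⟨h1, -⟩ := EGA4Alg4.regular_params_iff (fun i => (⟨f i, hf.mem i⟩ : maximalIdeal A))
  obtain ⟨hd, hreg⟩ := h1.mp ⟨inferInstance, hf.li⟩
  let J := Ideal.span (Set.range f)
  have hregJ : IsRegularLocalRing (A ⧸ J) := hreg
  obtain ⟨T, hcard, hT⟩ := Submodule.FG.exists_span_finset_card_eq_spanFinrank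
    (maximalIdeal (A ⧸ J)).fg_of_isNoetherianRing
  choose z hz using fun t : T => Ideal.Quotient.mk_surjective (I := J) (t : A ⧸ J)
  have hJm : J ≤ maximalIdeal A := Ideal.span_le.mpr (Set.range_subset_iff.mpr hf.mem)
  have hzm : ∀ t, z t ∈ maximalIdeal A := fun t => by
    have h2 : Ideal.Quotient.mk J (z t) ∈ maximalIdeal (A ⧸ J) := by
      rw [hz]
      exact hT ▸ Submodule.subset_span t.2
    intro hu
    exact h2 (hu.map _)
  let w : Fin r ⊕ T → A := Sum.elim f z
  have hwm : ∀ k, w k ∈ maximalIdeal A := by rintro (i | t); exacts [hf.mem i, hzm t]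
  have hspan : Ideal.span (Set.range w) = maximalIdeal A := by
    refine le_antisymm (Ideal.span_le.mpr (Set.range_subset_iff.mpr hwm)) fun a ha => ?_
    have h2 : Ideal.Quotient.mk J a ∈ (Ideal.span (Set.range z)).map (Ideal.Quotient.mk J) := by
      rw [Ideal.map_span, ← Set.range_comp, show (Ideal.Quotient.mk J ∘ z) = fun t : T => (t : A ⧸ J) from funext hz,
        Subtype.range_coe_subtype]
      have : Ideal.Quotient.mk J a ∈ maximalIdeal (A ⧸ J) := by
        rw [← IsLocalRing.map_maximalIdeal_of_surjective _ (Ideal.Quotient.mk_surjective (I := J))]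
        exact Ideal.mem_map_of_mem _ ha
      rw [← hT] at this
      exact this
    obtain ⟨b, hb, hbe⟩ := (Ideal.mem_map_iff_of_surjective _ Ideal.Quotient.mk_surjective).mp h2
    rw [Set.Sum.elim_range, Ideal.span_union]
    exact Submodule.mem_sup.mpr ⟨a - b, Ideal.Quotient.eq.mp hbe.symm, b, hb, sub_add_cancel a b⟩
  let v : Fin r ⊕ T → maximalIdeal R := fun k => ⟨algebraMap A R (w k), hmax ▸ Ideal.mem_map_of_mem _ (hwm k)⟩
  have hspanR : Ideal.span (Subtype.val '' Set.range v) = maximalIdeal R := by
    refine Eq.trans ?_ hmax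
    rw [← Set.range_comp, ← hspan, Ideal.map_span, ← Set.range_comp]
    rfl
  have hcot := (EGA4Alg4.span_eq_maximalIdeal_iff (A := R) (Set.range v)).mp hspanR
  rw [← Set.range_comp] at hcot
  obtain ⟨d, hdA⟩ : ∃ d : ℕ, ringKrullDim A = d :=
    ⟨_, ((IsRegularLocalRing.iff_finrank_cotangentSpace A).mp inferInstance).symm⟩
  have hcardT : Fintype.card (Fin r ⊕ T) = d := by
    rw [Fintype.card_sum, Fintype.card_fin, Fintype.card_coe, hcard]
    have h3 := IsRegularLocalRing.spanFinrank_maximalIdeal (R := A ⧸ J)
    have h4 : ((maximalIdeal (A ⧸ J)).spanFinrank : WithBot ℕ∞) + r = d := by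
      rw [h3, ← hdA]; exact hd
    have h5 : (maximalIdeal (A ⧸ J)).spanFinrank + r = d := by exact_mod_cast h4
    omega
  have hle : Module.finrank (ResidueField R) (CotangentSpace R) ≤ d := by
    rw [← finrank_top, ← hcot, ← hcardT]
    exact finrank_range_le_card _
  have hge : d ≤ Module.finrank (ResidueField R) (CotangentSpace R) := by
    have h6 := ringKrullDim_le_spanFinrank_maximalIdeal (R := R)
    rw [hdim, hdA, IsLocalRing.spanFinrank_maximalIdeal_eq_finrank_cotangentSpace] at h6
    exact_mod_cast h6
  have hreg : IsRegularLocalRing R := by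
    refine (IsRegularLocalRing.iff_finrank_cotangentSpace R).mpr ?_
    rw [hdim, hdA, le_antisymm hle hge]
  have hli := linearIndependent_of_top_le_span_of_card_eq_finrank hcot.ge (hcardT.trans (le_antisymm hge hle))
  exact ⟨hreg, fun i => (v (Sum.inl i)).2, hli.comp Sum.inl Sum.inl_injective⟩

/-- The strict henselization data. -/
theorem exists_strictHens (A : Type u) [CommRing A] [IsRegularLocalRing A] [IsDomain A] :
    ∃ (R : Type u) (_ : CommRing R) (_ : Algebra A R) (_ : IsRegularLocalRing R) (_ : IsDomain R)
      (_ : HenselianLocalRing R) (_ : IsSepClosed (ResidueField R)) (_ : Module.FaithfullyFlat A R)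
      (_ : IsLocalHom (algebraMap A R)),
      (maximalIdeal A).map (algebraMap A R) = maximalIdeal R ∧ Function.Injective (algebraMap A R) ∧
      ∀ {r : ℕ} {f : Fin r → A}, IsParams f → IsParams fun i => algebraMap A R (f i) := by
  obtain ⟨R, _, _, _, hloc, hsh⟩ := S0537.result A
  have : IsNoetherianRing R := (S0540.result A R).mp inferInstance
  have hmax := S0538.result A R
  have hdim := S0541.result A R
  have := S0539.result A R
  obtain ⟨hreg, -⟩ := isParams_map (r := 0) (f := Fin.elim0) hmax hdim ⟨fun i => i.elim0, linearIndependent_empty_type⟩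
  have : IsDomain R := CAlg1.isDomain_regular R
  have hH : HenselianLocalRing R := Hensel.IsStrictHenselization.henselian (R := A)
  have hsc : IsSepClosure (ResidueField A) (ResidueField R) := Hensel.IsStrictHenselization.isSepClosure
  refine ⟨R, inferInstance, inferInstance, hreg, inferInstance, hH, hsc.sep_closed, inferInstance, hloc,
    hmax, FaithfulSMul.algebraMap_injective A R, fun hf => ?_⟩
  obtain ⟨_, h⟩ := isParams_map hmax hdim hf
  exact h

end Groth.Agent.Abh84
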