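import Groth.Agent.Abh84.CoverEtale
import Groth.Agent.Abh84.StrictHens

/-!
# Over a strict henselization the cover lives in a Kummer field
-/

set_option autoImplicit false
universe u

open IsLocalRing TensorProduct

namespace Groth.Agent.Abh84

open Groth.Agent.KummerAlg84

/-- Kummer algebras of parameters over strictly henselian rings are strictly henselian. -/
theorem strictlyHenselian_kummer {R : Type u} [CommRing R] [IsRegularLocalRing R] [HenselianLocalRing R]
    [IsSepClosed (ResidueField R)] {r : ℕ} {f : Fin r → R} (hf : IsParams f) {n : Fin r → ℕ} (hn : ∀ i, 1 ≤ n i)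
    [IsLocalRing (MvPolynomial (Fin r) R ⧸ ker f n)] :
    HenselianLocalRing (MvPolynomial (Fin r) R ⧸ ker f n) ∧
      IsSepClosed (ResidueField (MvPolynomial (Fin r) R ⧸ ker f n)) := by
  have : IsDomain R := CAlg1.isDomain_regular R
  have := KummerAlg84.finite (a := f) hn
  have := KummerAlg84.isIntegral (a := f) hn
  have : IsLocalHom (algebraMap R (MvPolynomial (Fin r) R ⧸ ker f n)) :=
    (algebraMap_isIntegral_iff.mpr this).isLocalHom (injective_algebraMap hn)
  obtain ⟨h1, h2⟩ := S14620.result (algebraMap R (MvPolynomial (Fin r) R ⧸ ker f n))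
    (RingHom.finite_algebraMap.mpr inferInstance) ⟨inferInstance, inferInstance⟩
  exact ⟨h1, h2⟩

/-- A split finite étale algebra maps into the image of the base in any field. -/
theorem mem_range_of_split {R C Ω : Type u} [CommRing R] [HenselianLocalRing R] [IsSepClosed (ResidueField R)]
    [CommRing C] [Algebra R C] [Module.Finite R C] [Algebra.Etale R C] [Field Ω] (Θ : C →+* Ω)
    (P : Subfield Ω) (hP : ∀ a, Θ (algebraMap R C a) ∈ P) (x : C) : Θ x ∈ P := by
  classical
  obtain ⟨ι, _, ⟨e⟩⟩ := SplitEtale84.exists_algEquiv_pi R C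
  have hx : x = ∑ i, algebraMap R C (e x i) * e.symm (Pi.single i 1) := by
    apply e.injective
    rw [map_sum]
    funext j
    rw [Finset.sum_apply, Finset.sum_eq_single j]
    · simp
    · intro b _ hb
      simp [Pi.single_eq_of_ne (Ne.symm hb)]
    · simp
  rw [hx, map_sum]
  refine sum_mem fun i _ => ?_
  rw [map_mul]
  refine mul_mem (hP _) ?_
  have hidem : IsIdempotentElem (Θ (e.symm (Pi.single i 1))) := by
    rw [IsIdempotentElem, ← map_mul, ← map_mul, ← Pi.single_mul, mul_one]
  rcases IsIdempotentElem.iff_eq_zero_or_one.mp hidem with h | h <;> rw [h]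
  exacts [zero_mem _, one_mem _]

variable {A : Type u} [CommRing A] [IsRegularLocalRing A] [IsDomain A] {r : ℕ} {f : Fin r → A}
  [∀ i, (Ideal.span {f i}).IsPrime]
  (AF : Type u) [CommRing AF] [Algebra A AF] [IsLocalization.Away (∏ i, f i) AF]
  (B : Type u) [CommRing B] [Algebra AF B] [Algebra A B] [IsScalarTower A AF B]
  [Module.Finite AF B] [Algebra.Etale AF B]

set_option backward.isDefEq.respectTransparency.types false in
include f AF in
theorem image_subset_abstract (hf : IsParams f) {n : Fin r → ℕ} (hn : ∀ i, 1 ≤ n i) (hne : ∀ i, (n i : A) ≠ 0)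
    (hdiv : DivAt (f := f) B n) {K : Type u} [CommRing K] [IsRegularLocalRing K] [IsDomain K] [Algebra A K]
    [Module.Finite A K] (hinjK : Function.Injective (algebraMap A K)) (T : Fin r → K)
    (hT : ∀ i, T i ^ n i = algebraMap A K (f i))
    (S : Type u) [Field S] [Algebra K S] [IsFractionRing K S] [Algebra AF S]
    (hS : ∀ a, algebraMap AF S (algebraMap A AF a) = algebraMap K S (algebraMap A K a))
    {KR : Type u} [CommRing KR] [HenselianLocalRing KR] [IsSepClosed (ResidueField KR)] [Algebra K KR]
    {Ω : Type u} [Field Ω] (ξR : KR →+* Ω) (hξ : Function.Injective (ξR.comp (algebraMap K KR)))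
    (P : Subfield Ω) (hP : ∀ a, ξR a ∈ P) (χ : B →+* Ω)
    (hχ : ∀ a, χ (algebraMap A B a) = ξR (algebraMap K KR (algebraMap A K a))) (b : B) : χ b ∈ P := by
  classical
  let ξ : K →+* Ω := ξR.comp (algebraMap K KR)
  let F := ∏ i, f i
  have hF : F ≠ 0 := Finset.prod_ne_zero_iff.mpr fun i _ => hf.ne_zero i
  let a₀ : AF →+* S := algebraMap AF S
  have ha₀ : ∀ a, a₀ (algebraMap A AF a) = algebraMap K S (algebraMap A K a) := hS
  have : SMulCommClass AF K S := ⟨fun x y z => by simp only [Algebra.smul_def]; ring⟩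
  have hib : ∀ a, (Algebra.TensorProduct.includeRight (R := AF) (A := S) (B := B)).toRingHom (algebraMap A B a) =
      algebraMap K (S ⊗[AF] B) (algebraMap A K a) := fun a => by
    show _ = algebraMap S (S ⊗[AF] B) (algebraMap K S (algebraMap A K a))
    rw [← ha₀, IsScalarTower.algebraMap_apply A AF B]
    exact (Algebra.TensorProduct.includeRight (R := AF) (A := S) (B := B)).commutes _
  have hgenE : Algebra.adjoin S (Set.range (Algebra.TensorProduct.includeRight (R := AF) (A := S) (B := B)).toRingHom) = ⊤ := by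
    rw [eq_top_iff]
    intro x _
    induction x using TensorProduct.induction_on with
    | zero => exact zero_mem _
    | add a b ha hb => exact add_mem (ha trivial) (hb trivial)
    | tmul s b =>
      have he : s ⊗ₜ[AF] b = s • ((1 : S) ⊗ₜ[AF] b) := by rw [TensorProduct.smul_tmul', smul_eq_mul, mul_one]
      rw [he]
      exact Subalgebra.smul_mem _ (Algebra.subset_adjoin (Set.mem_range_self b)) s
  obtain ⟨hCfin, hCet⟩ := exists_etale_model AF B hf hn hne hdiv hinjK T hT S (S ⊗[AF] B) _ hib hgenE
  let C := integralClosure K (S ⊗[AF] B)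
  have hξinj : Function.Injective ξ := hξ
  let ξS : S →+* Ω := IsFractionRing.lift hξinj
  have hξS : ∀ k, ξS (algebraMap K S k) = ξ k := IsFractionRing.lift_algebraMap hξinj
  let : Algebra S Ω := ξS.toAlgebra
  let : Algebra AF Ω := (ξS.comp a₀).toAlgebra
  have : IsScalarTower AF S Ω := IsScalarTower.of_algebraMap_eq (R := AF) (S := S) (A := Ω) fun _ => rfl
  have hχAF : χ.comp (algebraMap AF B) = ξS.comp a₀ :=
    IsLocalization.ringHom_ext (Submonoid.powers F) (RingHom.ext fun a => by
      show χ (algebraMap AF B (algebraMap A AF a)) = ξS (a₀ (algebraMap A AF a))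
      rw [← IsScalarTower.algebraMap_apply A AF B, hχ, ha₀, hξS]
      rfl)
  let χ' : B →ₐ[AF] Ω := { χ with commutes' := RingHom.congr_fun hχAF }
  let Ψ : S ⊗[AF] B →ₐ[S] Ω := Algebra.TensorProduct.lift (Algebra.ofId S Ω) χ' fun _ _ => .all _ _
  let : Algebra K Ω := ξ.toAlgebra
  let : Algebra KR Ω := ξR.toAlgebra
  have : IsScalarTower K KR Ω := IsScalarTower.of_algebraMap_eq (R := K) (S := KR) (A := Ω) fun _ => rfl
  let ψC : C →ₐ[K] Ω :=
    { Ψ.toRingHom.comp C.val.toRingHom with
      commutes' := fun k => by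
        show Ψ (algebraMap S (S ⊗[AF] B) (algebraMap K S k)) = ξ k
        rw [Ψ.commutes]
        exact hξS k }
  let Θ : KR ⊗[K] C →ₐ[KR] Ω := Algebra.TensorProduct.lift (Algebra.ofId KR Ω) ψC fun _ _ => .all _ _
  have hC : ∀ c : C, ψC c ∈ P := fun c => by
    have h := mem_range_of_split (R := KR) Θ.toRingHom P (fun a => by
      show Θ (algebraMap KR _ a) ∈ P
      rw [Θ.commutes]
      exact hP a) ((1 : KR) ⊗ₜ c)
    have he : Θ ((1 : KR) ⊗ₜ c) = ψC c := by simp [Θ]
    rw [← he]
    exact h
  obtain ⟨⟨_, N, rfl⟩, hm⟩ := IsIntegral.exists_multiple_integral_of_isLocalization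
    (R := A) (Rₘ := AF) (Submonoid.powers F) b (Algebra.IsIntegral.isIntegral (R := AF) b)
  have hint : IsIntegral K ((Algebra.TensorProduct.includeRight (R := AF) (A := S) (B := B))
      (algebraMap A B (F ^ N) * b)) := by
    obtain ⟨p, hpm, hp⟩ := hm
    refine ⟨p.map (algebraMap A K), hpm.map _, ?_⟩
    rw [Polynomial.eval₂_map, show (algebraMap K (S ⊗[AF] B)).comp (algebraMap A K) =
      (Algebra.TensorProduct.includeRight (R := AF) (A := S) (B := B)).toRingHom.comp (algebraMap A B) from
        RingHom.ext fun a => (hib a).symm]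
    rw [Submonoid.smul_def, Algebra.smul_def] at hp
    show Polynomial.eval₂ _ ((Algebra.TensorProduct.includeRight (R := AF) (A := S) (B := B)).toRingHom _) p = 0
    rw [← Polynomial.hom_eval₂, hp, map_zero]
  have h1 := hC ⟨_, hint⟩
  have h2 : ψC ⟨_, hint⟩ = χ (algebraMap A B (F ^ N) * b) := by
    show Ψ ((1 : S) ⊗ₜ[AF] (algebraMap A B (F ^ N) * b)) = _
    simp [Ψ, χ']
  rw [h2, map_mul] at h1
  have hne0 : χ (algebraMap A B (F ^ N)) ≠ 0 := by
    rw [hχ]
    exact (map_ne_zero_iff ξ hξinj).mpr ((map_ne_zero_iff _ hinjK).mpr (pow_ne_zero _ hF))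
  have hFP : χ (algebraMap A B (F ^ N)) ∈ P := by rw [hχ]; exact hP _
  have := div_mem h1 hFP
  rwa [mul_div_cancel_left₀ _ hne0] at this

include f AF in
/-- Every conjugate of the cover over a strict henselization lies in the Kummer field. -/
theorem image_subset (hf : IsParams f) {n : Fin r → ℕ} (hn : ∀ i, 1 ≤ n i) (hne : ∀ i, (n i : A) ≠ 0)
    (hdiv : DivAt (f := f) B n)
    {R : Type u} [CommRing R] [IsRegularLocalRing R] [HenselianLocalRing R] [IsSepClosed (ResidueField R)]
    [Algebra A R] (hAR : Function.Injective (algebraMap A R)) (hfR : IsParams fun i => algebraMap A R (f i))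
    {Ω : Type u} [Field Ω] (gR : R →+* Ω) (hgR : Function.Injective gR) (z : Fin r → Ω)
    (hz : ∀ j, z j ^ n j = gR (algebraMap A R (f j))) (χ : B →+* Ω)
    (hχ : ∀ a, χ (algebraMap A B a) = gR (algebraMap A R a)) (b : B) : χ b ∈ rootField gR z := by
  let fR : Fin r → R := fun i => algebraMap A R (f i)
  let K := MvPolynomial (Fin r) A ⧸ ker f n
  let KR := MvPolynomial (Fin r) R ⧸ ker fR n
  have : IsDomain R := CAlg1.isDomain_regular R
  obtain ⟨hK, -⟩ := isParams_T hf hn
  obtain ⟨hKR, -⟩ := isParams_T hfR hn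
  have : IsDomain K := CAlg1.isDomain_regular K
  obtain ⟨hH, hS⟩ := strictlyHenselian_kummer hfR hn
  let jK : K →+* KR := rootHom f n ((algebraMap R KR).comp (algebraMap A R)) (T fR n) (fun j => T_pow fR n j)
  let : Algebra K KR := jK.toAlgebra
  have := KummerAlg84.finite (a := f) hn
  have hcomp : ∀ a, jK (algebraMap A K a) = algebraMap R KR (algebraMap A R a) := fun a =>
    rootHom_algebraMap f n _ _ _ a
  let ξR := rootHom fR n gR z hz
  have hξ : Function.Injective (ξR.comp (algebraMap K KR)) := by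
    have hz' : ∀ j, z j ^ n j = (gR.comp (algebraMap A R)) (f j) := hz
    have he : ξR.comp jK = rootHom f n (gR.comp (algebraMap A R)) z hz' := by
      refine Ideal.Quotient.ringHom_ext (MvPolynomial.ringHom_ext (fun c => ?_) fun j => ?_)
      · show ξR (jK (algebraMap A K c)) = rootHom f n _ z hz' (algebraMap A K c)
        rw [hcomp, rootHom_algebraMap, rootHom_algebraMap]
        rfl
      · show ξR (jK (KummerAlg84.T f n j)) = rootHom f n _ z hz' (KummerAlg84.T f n j)
        show rootHom fR n gR z hz (rootHom f n ((algebraMap R KR).comp (algebraMap A R)) (KummerAlg84.T fR n) _ (KummerAlg84.T f n j)) = _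
        exact ((congrArg _ (rootHom_T f n _ _ _ j)).trans (rootHom_T fR n gR z hz j)).trans (rootHom_T f n _ _ _ j).symm
    show Function.Injective (ξR.comp jK)
    rw [he]
    exact rootHom_injective hf hn _ (hgR.comp hAR) z hz'
  have hF : algebraMap A K (∏ i, f i) ≠ 0 := (map_ne_zero_iff _ (injective_algebraMap hn)).mpr
    (Finset.prod_ne_zero_iff.mpr fun i _ => hf.ne_zero i)
  let aS : AF →+* FractionRing K := IsLocalization.Away.lift (∏ i, f i)
    (g := (algebraMap K (FractionRing K)).comp (algebraMap A K))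
    (IsUnit.mk0 _ ((map_ne_zero_iff _ (IsFractionRing.injective K (FractionRing K))).mpr hF))
  let : Algebra AF (FractionRing K) := aS.toAlgebra
  refine image_subset_abstract AF B hf hn hne hdiv (injective_algebraMap hn) (T f n) (T_pow f n) (FractionRing K)
    (fun a => IsLocalization.Away.lift_eq (∏ i, f i) _ a) ξR hξ
    (rootField gR z) (range_subset_rootField gR z hz) χ (fun a => ?_) b
  show _ = ξR (jK (algebraMap A K a))
  rw [hcomp, rootHom_algebraMap, hχ]

end Groth.Agent.Abh84
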