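import Groth.Agent.Abh84.CoverDescend
import Mathlib.RingTheory.Flat.FaithfullyFlat.Algebra
import Mathlib.RingTheory.Valuation.LocalSubring

/-!
# Absolute Abhyankar lemma: exponents invertible in the residue field
-/

set_option autoImplicit false
universe u

open IsLocalRing TensorProduct

namespace Groth.Agent.Abh84

/-- Two extensions of a discrete valuation ring are dominated by a common valuation ring. -/
theorem exists_common {A₁ V R₁ : Type u} [CommRing A₁] [IsDomain A₁] [IsDiscreteValuationRing A₁]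
    [CommRing V] [IsDomain V] [IsDiscreteValuationRing V] [CommRing R₁] [IsDomain R₁] [IsDiscreteValuationRing R₁]
    [Algebra A₁ V] [Algebra A₁ R₁] [IsLocalHom (algebraMap A₁ V)] [IsLocalHom (algebraMap A₁ R₁)]
    (hV : Function.Injective (algebraMap A₁ V)) (hR : Function.Injective (algebraMap A₁ R₁)) :
    ∃ (Λ : Type u) (_ : Field Λ) (_ : IsAlgClosed Λ) (iV : V →+* Λ) (iR : R₁ →+* Λ),
      Function.Injective iV ∧ Function.Injective iR ∧ iV.comp (algebraMap A₁ V) = iR.comp (algebraMap A₁ R₁) ∧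
      ∃ W : ValuationSubring Λ, EtRam.Dominates V iV W ∧ EtRam.Dominates R₁ iR W := by
  have : FaithfulSMul A₁ V := (faithfulSMul_iff_algebraMap_injective A₁ V).mpr hV
  have : FaithfulSMul A₁ R₁ := (faithfulSMul_iff_algebraMap_injective A₁ R₁).mpr hR
  have : Module.IsTorsionFree A₁ V := inferInstance
  have : Module.IsTorsionFree A₁ R₁ := inferInstance
  have : Module.Flat A₁ V := inferInstance
  have : Module.Flat A₁ R₁ := inferInstance
  have : Module.FaithfullyFlat A₁ R₁ := Module.FaithfullyFlat.of_flat_of_isLocalHom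
  let C := V ⊗[A₁] R₁
  let iv : V →+* C := Algebra.TensorProduct.includeLeftRingHom
  let ir : R₁ →+* C := (Algebra.TensorProduct.includeRight : R₁ →ₐ[A₁] C).toRingHom
  have hagree : ∀ a, iv (algebraMap A₁ V a) = ir (algebraMap A₁ R₁ a) := fun a =>
    Algebra.TensorProduct.tmul_one_eq_one_tmul a
  obtain ⟨⟨n, hn⟩, hnV⟩ := PrimeSpectrum.comap_surjective_of_faithfullyFlat (A := V) (B := C) (closedPoint V)
  have hnV' : n.comap iv = maximalIdeal V := congrArg PrimeSpectrum.asIdeal hnV
  obtain ⟨q, hq, hqn⟩ := Ideal.exists_minimalPrimes_le (I := (⊥ : Ideal C)) (J := n) bot_le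
  have : q.IsPrime := hq.1.1
  have hqV : q.comap iv = ⊥ := by
    by_contra hne
    have : q.LiesOver (q.comap (algebraMap V C)) := ⟨rfl⟩
    obtain ⟨q', hq'lt, hq'p, -⟩ := Ideal.exists_ideal_lt_liesOver_of_lt (R := V) (p := ⊥) (q := q.comap (algebraMap V C))
      q (bot_lt_iff_ne_bot.mpr hne)
    exact hq'lt.not_ge (hq.2 ⟨hq'p, bot_le⟩ hq'lt.le)
  obtain ⟨ϖ, hϖ⟩ := IsDiscreteValuationRing.exists_irreducible A₁
  have hϖV : algebraMap A₁ V ϖ ≠ 0 := (map_ne_zero_iff _ hV).mpr hϖ.ne_zero
  have hϖm : ϖ ∈ maximalIdeal A₁ := (mem_maximalIdeal _).mpr hϖ.not_isUnit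
  have hqR : q.comap ir = ⊥ := by
    by_contra hne
    have hmax : q.comap ir = maximalIdeal R₁ := IsLocalRing.eq_maximalIdeal ((Ideal.comap_isPrime ir q).isMaximal hne)
    have h1 : iv (algebraMap A₁ V ϖ) ∈ q := by
      rw [hagree]
      exact hmax.ge (map_nonunit (algebraMap A₁ R₁) ϖ hϖm)
    exact hϖV ((Submodule.mem_bot V).mp (hqV ▸ h1 : algebraMap A₁ V ϖ ∈ (⊥ : Ideal V)))
  have hnR : n.comap ir = maximalIdeal R₁ := by
    refine IsLocalRing.eq_maximalIdeal ((Ideal.comap_isPrime ir n).isMaximal fun hbot => ?_)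
    have h1 : algebraMap A₁ R₁ ϖ ∈ n.comap ir := by
      show ir _ ∈ n
      rw [← hagree]
      exact hnV'.ge (map_nonunit (algebraMap A₁ V) ϖ hϖm)
    rw [hbot, Submodule.mem_bot] at h1
    exact hϖ.ne_zero (hR (h1.trans (map_zero _).symm))
  let F := FractionRing (C ⧸ q)
  let Λ := AlgebraicClosure F
  let χ : C →+* Λ := (algebraMap F Λ).comp ((algebraMap (C ⧸ q) F).comp (Ideal.Quotient.mk q))
  have hχ : ∀ c, χ c = 0 ↔ c ∈ q := fun c => by
    show algebraMap F Λ (algebraMap (C ⧸ q) F (Ideal.Quotient.mk q c)) = 0 ↔ c ∈ q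
    rw [map_eq_zero, map_eq_zero_iff _ (IsFractionRing.injective (C ⧸ q) F), Ideal.Quotient.eq_zero_iff_mem]
  let ρ : Localization.AtPrime n →+* Λ := IsLocalization.lift (M := n.primeCompl) (g := χ) fun s =>
    IsUnit.mk0 _ fun h0 => s.2 (hqn ((hχ _).mp h0))
  have hρ : ∀ c, ρ (algebraMap C _ c) = χ c := IsLocalization.lift_eq _
  obtain ⟨W, hW, hWloc⟩ := IsLocalRing.exists_factor_valuationRing ρ
  have hdom : ∀ c ∈ n, W.valuation (χ c) < 1 := fun c hc => by
    have h1 : algebraMap C (Localization.AtPrime n) c ∈ maximalIdeal _ :=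
      (IsLocalization.AtPrime.to_map_mem_maximal_iff _ n c).mpr hc
    rw [← hρ]
    refine (W.valuation_lt_one_iff ⟨_, hW _⟩).mp ((mem_maximalIdeal _).mpr fun hu => ?_)
    exact (mem_maximalIdeal _).mp h1 (hWloc.map_nonunit _ hu)
  refine ⟨Λ, inferInstance, inferInstance, χ.comp iv, χ.comp ir, ?_, ?_, RingHom.ext fun a => congrArg χ (hagree a), W,
    ⟨fun v => hρ (iv v) ▸ hW _, fun v hv => hdom _ (hnV'.ge hv)⟩,
    ⟨fun v => hρ (ir v) ▸ hW _, fun v hv => hdom _ (hnR.ge hv)⟩⟩
  · rw [RingHom.injective_iff_ker_eq_bot, eq_bot_iff, ← hqV]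
    exact fun v hv => (hχ _).mp hv
  · rw [RingHom.injective_iff_ker_eq_bot, eq_bot_iff, ← hqR]
    exact fun v hv => (hχ _).mp hv

open Groth.Agent.KummerAlg84

variable {A : Type u} [CommRing A] [IsRegularLocalRing A] [IsDomain A] {r : ℕ} {f : Fin r → A}
  [∀ i, (Ideal.span {f i}).IsPrime]
  (AF : Type u) [CommRing AF] [Algebra A AF] [IsLocalization.Away (∏ i, f i) AF]
  (B : Type u) [CommRing B] [Algebra AF B] [Algebra A B] [IsScalarTower A AF B]
  [Module.Finite AF B] [Algebra.Etale AF B]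

set_option backward.isDefEq.respectTransparency.types false in
include f AF in
/-- Exponents with which the cover lives in a Kummer field over `R` are divisible by the indices. -/
theorem divAt_of_lives (hf : IsParams f) (htame : SGA1.IsTameAlong f (algebraMap A B))
    {R : Type u} [CommRing R] [IsRegularLocalRing R] [IsDomain R] [Algebra A R] [Module.FaithfullyFlat A R]
    (hfR : IsParams fun i => algebraMap A R (f i))
    (n : Fin r → ℕ) (hn : ∀ i, 1 ≤ n i) (hu : ∀ i, IsUnit (n i : A)) (h : Lives (R := R) f B n) :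
    DivAt (f := f) B n := by
  classical
  intro i q hqp hq V hV
  let A₁ := Localization.AtPrime (Ideal.span {f i})
  obtain ⟨hdomA, hdvrA, hπA, hinjA⟩ := isDVR_localization (hf.ne_zero i)
  let g₁ := SGA1.genericResidueMap (algebraMap A B) (Ideal.span {f i}) q hq
  have hg₁ : ∀ a, g₁ (algebraMap A A₁ a) = algebraMap B q.ResidueField (algebraMap A B a) := fun a =>
    genericResidueMap_algebraMap _ _ q hq a
  have hg₁inj : Function.Injective g₁ := by
    rw [injective_iff_map_eq_zero]
    intro x hx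
    obtain ⟨a, s, rfl⟩ := IsLocalization.exists_mk'_eq (Ideal.span {f i}).primeCompl x
    have h0 := congrArg g₁ (IsLocalization.mk'_spec A₁ a s)
    rw [map_mul, hx, zero_mul, hg₁] at h0
    rw [generic_injective (algebraMap A B) q hq (h0.symm.trans (map_zero _).symm), IsLocalization.mk'_zero]
  obtain ⟨hfd, hsep⟩ := residueField_finite_separable (f := f) AF B q hq
  let KA := FractionRing A
  let : Algebra A₁ KA := IsLocalization.localizationAlgebraOfSubmonoidLe A₁ KA (Ideal.span {f i}).primeCompl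
    (nonZeroDivisors A) (Ideal.span {f i}).primeCompl_le_nonZeroDivisors
  have : IsScalarTower A A₁ KA := IsLocalization.localization_isScalarTower_of_submonoid_le A₁ KA
    (Ideal.span {f i}).primeCompl (nonZeroDivisors A) (Ideal.span {f i}).primeCompl_le_nonZeroDivisors
  have : IsFractionRing A₁ KA :=
    IsFractionRing.isFractionRing_of_isDomain_of_isLocalization (Ideal.span {f i}).primeCompl A₁ KA
  let : Algebra KA q.ResidueField :=
    (IsFractionRing.lift (K := KA) (generic_injective (algebraMap A B) q hq)).toAlgebra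
  let : Algebra A₁ q.ResidueField := g₁.toAlgebra
  have : IsScalarTower A₁ KA q.ResidueField := .of_algebraMap_eq' (IsLocalization.ringHom_ext
    (Ideal.span {f i}).primeCompl (RingHom.ext fun a => by
      show g₁ (algebraMap A A₁ a) = algebraMap KA q.ResidueField (algebraMap A₁ KA (algebraMap A A₁ a))
      rw [hg₁, ← IsScalarTower.algebraMap_apply A A₁ KA]
      exact (IsFractionRing.lift_algebraMap (generic_injective (algebraMap A B) q hq) a).symm))
  have hdvrV : ∀ V' : ValuationSubring q.ResidueField, EtRam.Dominates A₁ g₁ V' → IsDiscreteValuationRing V' :=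
    fun V' hV' => EtRam26.dvr_of_dominates (A := A₁) (K := KA) V' hV'
  obtain ⟨e, he, hre, hne⟩ := (EtRam26.isTamelyRamified_iff hg₁inj hdvrV).mp (htame i q hq) V hV
  refine ⟨e, he, ?_, hre, hne⟩
  have := hdvrV V hV
  have hPp : (Ideal.span {algebraMap A R (f i)}).IsPrime := hfR.isPrime i
  let P := Ideal.span {algebraMap A R (f i)}
  have hPcomap : P.comap (algebraMap A R) = Ideal.span {f i} := by
    rw [show P = (Ideal.span {f i}).map (algebraMap A R) by rw [Ideal.map_span, Set.image_singleton]]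
    exact Ideal.comap_map_eq_self_of_faithfullyFlat _
  let R₁ := Localization.AtPrime P
  obtain ⟨hdomR, hdvrR, hπR, hinjR⟩ := isDVR_localization (hfR.ne_zero i)
  let δ₁ : A₁ →+* R₁ := IsLocalization.lift (M := (Ideal.span {f i}).primeCompl)
    (g := (algebraMap R R₁).comp (algebraMap A R)) fun s =>
      IsLocalization.map_units R₁ (⟨algebraMap A R s, fun hs => s.2 (hPcomap.le hs)⟩ : P.primeCompl)
  have hδ₁ : ∀ a, δ₁ (algebraMap A A₁ a) = algebraMap R R₁ (algebraMap A R a) := IsLocalization.lift_eq _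
  have hmapδ : (maximalIdeal A₁).map δ₁ = maximalIdeal R₁ := by
    rw [hπA, hπR, Ideal.map_span, Set.image_singleton, hδ₁]
  let : Algebra A₁ R₁ := δ₁.toAlgebra
  have : IsLocalHom (algebraMap A₁ R₁) := ((local_hom_TFAE _).out 0 2).mpr hmapδ.le
  have hδinj : Function.Injective (algebraMap A₁ R₁) := by
    rw [RingHom.injective_iff_ker_eq_bot]
    by_contra hne
    have hker : RingHom.ker (algebraMap A₁ R₁) = maximalIdeal A₁ :=
      IsLocalRing.eq_maximalIdeal ((RingHom.ker_isPrime _).isMaximal hne)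
    have h1 : algebraMap A A₁ (f i) ∈ RingHom.ker (algebraMap A₁ R₁) :=
      hker.ge (hπA.ge (Ideal.mem_span_singleton_self _))
    rw [RingHom.mem_ker] at h1
    exact (map_ne_zero_iff _ hinjR).mpr (hfR.ne_zero i) ((hδ₁ (f i)).symm.trans h1)
  let : Algebra A₁ V := (g₁.codRestrict V hV.1).toAlgebra
  have : IsLocalHom (algebraMap A₁ V) := EtRam26.isLocalHom_codRestrict hV
  have hAV : Function.Injective (algebraMap A₁ V) := fun a b hab => hg₁inj (congrArg Subtype.val hab)
  obtain ⟨Λ, _, _, iV, iR, hiV, hiR, hagree, W, hWV, hWR⟩ := exists_common (A₁ := A₁) (V := V) (R₁ := R₁) hAV hδinj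
  let jκ : q.ResidueField →+* Λ := IsFractionRing.lift (A := V) hiV
  have hjκ : ∀ v : V, jκ v = iV v := fun v => IsFractionRing.lift_algebraMap hiV v
  let gR : R →+* Λ := iR.comp (algebraMap R R₁)
  have hgR : Function.Injective gR := fun a b hab => hinjR (hiR hab)
  have hz0 : ∀ j, ∃ z : Λ, z ^ n j = gR (algebraMap A R (f j)) := fun j => IsAlgClosed.exists_pow_nat_eq _ (hn j)
  choose z hz using hz0
  let χ : B →+* Λ := jκ.comp (algebraMap B q.ResidueField)
  have hχ : ∀ a, χ (algebraMap A B a) = gR (algebraMap A R a) := fun a => by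
    show jκ (algebraMap B q.ResidueField (algebraMap A B a)) = _
    rw [← hg₁ a]
    refine ((hjκ (algebraMap A₁ V (algebraMap A A₁ a))).trans (RingHom.congr_fun hagree _)).trans ?_
    exact congrArg iR (hδ₁ a)
  let N := rootField gR z
  have hχN : ∀ b, χ b ∈ N := fun b => h Λ gR hgR z hz χ hχ b
  have hjN : ∀ x, jκ x ∈ N := fun x => by
    obtain ⟨a, b, hb, hab⟩ := exists_residue_frac q x
    rw [show x = algebraMap B q.ResidueField a / algebraMap B q.ResidueField b from (eq_div_iff hb).mpr hab, map_div₀]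
    exact div_mem (hχN a) (hχN b)
  let gN : R →+* N := gR.codRestrict N fun a => Subfield.subset_closure (Or.inl ⟨a, rfl⟩)
  let zN : Fin r → N := fun j => ⟨z j, Subfield.subset_closure (Or.inr ⟨j, rfl⟩)⟩
  have hgN : ∀ a : R₁, iR a ∈ N := fun a => by
    obtain ⟨x, s, rfl⟩ := IsLocalization.exists_mk'_eq P.primeCompl a
    have h0 := congrArg iR (IsLocalization.mk'_spec R₁ x s)
    rw [map_mul] at h0
    have hs0 : iR (algebraMap R R₁ s) ≠ 0 :=
      (map_ne_zero_iff _ hiR).mpr ((map_ne_zero_iff _ hinjR).mpr fun hs => s.2 (hs ▸ P.zero_mem))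
    rw [(eq_div_iff hs0).mpr h0]
    exact div_mem (Subfield.subset_closure (Or.inl ⟨_, rfl⟩)) (Subfield.subset_closure (Or.inl ⟨_, rfl⟩))
  let g₁N : R₁ →+* N := iR.codRestrict N hgN
  let W' := W.comap N.subtype
  have hW' : EtRam.Dominates R₁ g₁N W' := EtRam26.dominates_comap N.subtype
    (g := g₁N) (W := W) (show EtRam.Dominates R₁ iR W from hWR)
  obtain ⟨hW'dvr, hr2⟩ := kummer_ram hfR hn (fun j => by
      rw [← map_natCast (algebraMap A R)]; exact (hu j).map _) gN (fun a b hab => hgR (congrArg Subtype.val hab)) zN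
    (fun j => Subtype.ext (hz j)) (closure_restrict gR z N rfl gN (fun _ => rfl) zN fun _ => rfl) i g₁N rfl W' hW'
  let iVN : V →+* N := iV.codRestrict N fun v => hjκ v ▸ hjN v
  have hVW : EtRam.Dominates V iVN W' := EtRam26.dominates_comap N.subtype
    (g := iVN) (W := W) (show EtRam.Dominates V iV W from hWV)
  let f₁ : V →+* W' := iVN.codRestrict W' hVW.1
  have hf₁inj : Function.Injective f₁ := fun a b hab =>
    hiV (congrArg (fun t : W' => ((t : N) : Λ)) hab)
  obtain ⟨b, hb⟩ := EtRam26.exists_pow_eq (S := W') (J := (maximalIdeal V).map f₁)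
    ((Ideal.map_eq_bot_iff_of_injective hf₁inj).not.mpr (IsDiscreteValuationRing.not_a_field V))
  have hcomp : f₁.comp (algebraMap A₁ V) = (g₁N.codRestrict W' hW'.1).comp δ₁ :=
    RingHom.ext fun a => Subtype.ext (Subtype.ext (RingHom.congr_fun hagree a))
  obtain ⟨-, -, hm2⟩ := hr2
  obtain ⟨-, -, hme⟩ := hre
  have h1 : (maximalIdeal A₁).map (f₁.comp (algebraMap A₁ V)) = maximalIdeal W' ^ (b * e) := by
    rw [← Ideal.map_map, show (maximalIdeal A₁).map (algebraMap A₁ V) = maximalIdeal V ^ e from hme, Ideal.map_pow, hb,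
      ← pow_mul]
  rw [hcomp, ← Ideal.map_map, hmapδ, hm2] at h1
  exact Dvd.intro_left b (EtRam26.pow_maximalIdeal_inj h1).symm

include f AF in
/-- Absolute Abhyankar lemma: invertible exponents. -/
theorem exists_unit_exponents (hf : IsParams f) (htame : SGA1.IsTameAlong f (algebraMap A B)) :
    ∃ n : Fin r → ℕ, (∀ i, 1 ≤ n i) ∧ (∀ i, IsUnit (n i : A)) ∧ DivAt (f := f) B n := by
  obtain ⟨e, he, hne, hdiv⟩ := exists_divAt (f := f) AF B hf htame
  obtain ⟨R, _, _, _, _, _, _, _, _, -, hAR, hpar⟩ := exists_strictHens A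
  have hfR := hpar hf
  have hlives : Lives (R := R) f B e := fun Ω _ _ gR hgR z hz χ hχ b =>
    image_subset AF B hf he hne hdiv hAR hfR gR hgR z hz χ hχ b
  obtain ⟨m, hm, hu, hl⟩ := exists_lives_unit AF B hf htame hAR hfR e he hne hlives
  exact ⟨m, hm, hu, divAt_of_lives AF B hf htame hfR m hm hu hl⟩

end Groth.Agent.Abh84
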