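import Groth.Agent.Abh84.CoverMain
import Groth.Agent.FEt83.AffineBaseChange
import Groth.Agent.FEt83.NormalCover
import Groth.Agent.FEt83.PurityExtend
import Mathlib.AlgebraicGeometry.Morphisms.Preimmersion

/-!
# Absolute Abhyankar lemma: the extension over the Kummer covering
-/

set_option autoImplicit false
universe u

open IsLocalRing TensorProduct CategoryTheory AlgebraicGeometry Limits

namespace Groth.Agent.Abh84

open Groth.Agent.KummerAlg84

/-- The integral closure spans a finite algebra over the fraction field. -/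
theorem nonempty_tensor_integralClosure (K S E : Type u) [CommRing K] [IsDomain K] [Field S] [Algebra K S]
    [IsFractionRing K S] [CommRing E] [Algebra S E] [Algebra K E] [IsScalarTower K S E] [Module.Finite S E] :
    Nonempty (S ⊗[K] integralClosure K E ≃ₐ[S] E) := by
  let Φ : S ⊗[K] integralClosure K E →ₐ[S] E :=
    Algebra.TensorProduct.lift (Algebra.ofId S E) (integralClosure K E).val fun _ _ => .all _ _
  have hΦ : ∀ s c, Φ (s ⊗ₜ c) = algebraMap S E s * c.1 := fun s c => Algebra.TensorProduct.lift_tmul ..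
  have hden : ∀ z : S ⊗[K] integralClosure K E, ∃ k ∈ nonZeroDivisors K, ∃ c, algebraMap K S k • z = (1 : S) ⊗ₜ c := by
    intro z
    induction z using TensorProduct.induction_on with
    | zero => exact ⟨1, one_mem _, 0, by simp⟩
    | tmul s c =>
      obtain ⟨⟨a, k⟩, hak⟩ := IsLocalization.surj (nonZeroDivisors K) s
      refine ⟨k, k.2, a • c, ?_⟩
      rw [smul_tmul', smul_eq_mul, mul_comm, hak, ← smul_tmul, Algebra.smul_def, mul_one]
    | add x y hx hy =>
      obtain ⟨k, hk, c, hc⟩ := hx
      obtain ⟨l, hl, d, hd⟩ := hy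
      refine ⟨k * l, mul_mem hk hl, l • c + k • d, ?_⟩
      rw [map_mul, smul_add, tmul_add, mul_comm (algebraMap K S k), mul_smul, hc, mul_comm, mul_smul, hd,
        algebraMap_smul, algebraMap_smul, ← tmul_smul, ← tmul_smul]
  refine ⟨AlgEquiv.ofBijective Φ ⟨?_, ?_⟩⟩
  · rw [injective_iff_map_eq_zero]
    intro z hz
    obtain ⟨k, hk, c, hc⟩ := hden z
    have h0 : c.1 = 0 := by
      have := congrArg Φ hc
      rw [map_smul, hz, smul_zero, hΦ, map_one, one_mul] at this
      exact this.symm
    rw [show c = 0 from Subtype.ext h0, tmul_zero] at hc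
    exact (smul_eq_zero.mp hc).resolve_left
      ((map_ne_zero_iff _ (IsFractionRing.injective K S)).mpr (nonZeroDivisors.ne_zero hk))
  · intro x
    obtain ⟨⟨m, hm⟩, hx⟩ := IsIntegral.exists_multiple_integral_of_isLocalization
      (R := K) (Rₘ := S) (nonZeroDivisors K) x (Algebra.IsIntegral.isIntegral (R := S) x)
    refine ⟨(algebraMap K S m)⁻¹ ⊗ₜ ⟨_, hx⟩, ?_⟩
    rw [hΦ]
    show algebraMap S E (algebraMap K S m)⁻¹ * (m • x) = x
    rw [Algebra.smul_def, IsScalarTower.algebraMap_apply K S E, ← mul_assoc, ← map_mul,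
      inv_mul_cancel₀ ((map_ne_zero_iff _ (IsFractionRing.injective K S)).mpr (nonZeroDivisors.ne_zero hm)),
      map_one, one_mul]

variable {A : Type u} [CommRing A] [IsRegularLocalRing A] [IsDomain A] {r : ℕ} {f : Fin r → A}
  [∀ i, (Ideal.span {f i}).IsPrime]
  (AF : Type u) [CommRing AF] [Algebra A AF] [IsLocalization.Away (∏ i, f i) AF]
  (B : Type u) [CommRing B] [Algebra AF B] [Algebra A B] [IsScalarTower A AF B]
  [Module.Finite AF B] [Algebra.Etale AF B]

set_option backward.isDefEq.respectTransparency.types false in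
include f in
/-- The finite étale model of the cover over the Kummer algebra. -/
theorem exists_model (hf : IsParams f) {n : Fin r → ℕ} (hn : ∀ i, 1 ≤ n i) (hne : ∀ i, (n i : A) ≠ 0)
    (hdiv : DivAt (f := f) B n) {K : Type u} [CommRing K] [IsRegularLocalRing K] [IsDomain K] [Algebra A K]
    [Module.Finite A K] (hinjK : Function.Injective (algebraMap A K)) (T : Fin r → K)
    (hT : ∀ i, T i ^ n i = algebraMap A K (f i))
    (S : Type u) [Field S] [Algebra K S] [IsFractionRing K S] [Algebra AF S]
    (hS : ∀ a, algebraMap AF S (algebraMap A AF a) = algebraMap K S (algebraMap A K a)) :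
    ∃ (C : Type u) (_ : CommRing C) (_ : Algebra K C) (_ : Module.Finite K C) (_ : Algebra.Etale K C),
      Nonempty (S ⊗[K] C ≃ₐ[S] S ⊗[AF] B) := by
  have : SMulCommClass AF K S := ⟨fun x y z => by simp only [Algebra.smul_def]; ring⟩
  have hib : ∀ a, (Algebra.TensorProduct.includeRight (R := AF) (A := S) (B := B)).toRingHom (algebraMap A B a) =
      algebraMap K (S ⊗[AF] B) (algebraMap A K a) := fun a => by
    show _ = algebraMap S (S ⊗[AF] B) (algebraMap K S (algebraMap A K a))
    rw [← hS, IsScalarTower.algebraMap_apply A AF B]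
    exact (Algebra.TensorProduct.includeRight (R := AF) (A := S) (B := B)).commutes _
  have hgenE : Algebra.adjoin S (Set.range (Algebra.TensorProduct.includeRight (R := AF) (A := S) (B := B)).toRingHom) = ⊤ := by
    rw [eq_top_iff]
    intro x _
    induction x using TensorProduct.induction_on with
    | zero => exact zero_mem _
    | add a b ha hb => exact add_mem (ha trivial) (hb trivial)
    | tmul s b =>
      have he : s ⊗ₜ[AF] b = s • ((1 : S) ⊗ₜ[AF] b) := by rw [TensorProduct.smul_tmul', smul_eq_mul, mul_one]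
      rw [he]
      exact Subalgebra.smul_mem _ (Algebra.subset_adjoin (Set.mem_range_self b)) s
  obtain ⟨hCfin, hCet⟩ := exists_etale_model AF B hf hn hne hdiv hinjK T hT S (S ⊗[AF] B) _ hib hgenE
  exact ⟨integralClosure K (S ⊗[AF] B), inferInstance, inferInstance, hCfin, hCet,
    nonempty_tensor_integralClosure K S (S ⊗[AF] B)⟩

end Groth.Agent.Abh84
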