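import Groth.Agent.Abh84.CoverModel

/-!
# Covers of the complement of the divisor as algebras, and the comparison over the Kummer covering
-/

set_option autoImplicit false
universe u

open IsLocalRing TensorProduct CategoryTheory AlgebraicGeometry Limits Opposite

namespace Groth.Agent.Abh84

/-- A cover of a basic open is given by an algebra. -/
theorem exists_affine_cover {A : Type u} [CommRing A] (F : A) (AF : Type u) [CommRing AF] [Algebra A AF]
    [IsLocalization.Away F AF] (V : FEt.Cat ((SGA1.specBasicOpen A F) : Scheme.{u})) :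
    ∃ (j : Spec (CommRingCat.of AF) ⟶ (SGA1.specBasicOpen A F : Scheme.{u}))
      (_ : j ≫ (SGA1.specBasicOpen A F).ι = Spec.map (CommRingCat.ofHom (algebraMap A AF)))
      (iB : Algebra AF Γ(V.left, ⊤)) (_ : Module.Finite AF Γ(V.left, ⊤)) (_ : Algebra.Etale AF Γ(V.left, ⊤)),
      (algebraMap AF Γ(V.left, ⊤)).comp (algebraMap A AF) =
        ((V.hom ≫ (SGA1.specBasicOpen A F).ι).appTop).hom.comp (Scheme.ΓSpecIso (CommRingCat.of A)).inv.hom ∧
      Nonempty ((FEt.restrict j).obj V ≅
        (FEt83.specFunctor AF).obj (op (CommAlgCat.FiniteEtale.of AF Γ(V.left, ⊤)))) := by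
  let U := SGA1.specBasicOpen A F
  let a : Spec (CommRingCat.of AF) ⟶ Spec (CommRingCat.of A) := Spec.map (CommRingCat.ofHom (algebraMap A AF))
  have : IsOpenImmersion a := IsOpenImmersion.of_isLocalization F
  have hrange : Set.range a = Set.range U.ι := by
    rw [Scheme.Opens.range_ι]
    exact PrimeSpectrum.localization_away_comap_range AF F
  let j : Spec (CommRingCat.of AF) ⟶ (U : Scheme.{u}) := (IsOpenImmersion.isoOfRangeEq a U.ι hrange).hom
  have hj : j ≫ U.ι = a := IsOpenImmersion.isoOfRangeEq_hom_fac _ _ _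
  have : IsFinite V.hom := V.prop.1
  have : Etale V.hom := V.prop.2
  have : IsAffine (U : Scheme.{u}) := IsAffine.of_isIso (inv j)
  let v : V.left ⟶ (U : Scheme.{u}) := V.hom
  have : IsFinite v := V.prop.1
  have : IsAffine V.left := isAffine_of_isAffineHom v
  let φ : CommRingCat.of AF ⟶ Γ(V.left, ⊤) := Spec.preimage (V.left.isoSpec.inv ≫ v ≫ inv j)
  have hφ : Spec.map φ = V.left.isoSpec.inv ≫ v ≫ inv j := Spec.map_preimage _
  have hp : FEt.prop (Spec.map φ) := by
    rw [hφ, FEt.prop.cancel_left_of_respectsIso, FEt.prop.cancel_right_of_respectsIso]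
    exact V.prop
  let iB : Algebra AF Γ(V.left, ⊤) := φ.hom.toAlgebra
  have hfin : Module.Finite AF Γ(V.left, ⊤) := RingHom.finite_algebraMap.mp ((IsFinite.SpecMap_iff φ).mp hp.1)
  have het : Algebra.Etale AF Γ(V.left, ⊤) :=
    RingHom.etale_algebraMap.mp ((HasRingHomProperty.Spec_iff (P := @Etale)).mp hp.2)
  refine ⟨j, hj, iB, hfin, het, ?_, ?_⟩
  · have key : CommRingCat.ofHom (algebraMap A AF) ≫ φ =
        (Scheme.ΓSpecIso (CommRingCat.of A)).inv ≫ (v ≫ U.ι).appTop := by
      apply Spec.map_injective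
      rw [Spec.map_comp, hφ, Spec.map_comp, ← Scheme.isoSpec_Spec_inv, Scheme.isoSpec_inv_naturality]
      show (V.left.isoSpec.inv ≫ v ≫ inv j) ≫ a = _
      refine Eq.trans (congrArg (fun t => (V.left.isoSpec.inv ≫ v ≫ inv j) ≫ t) hj.symm) ?_
      simp
    exact congrArg CommRingCat.Hom.hom key
  · refine ⟨MorphismProperty.Over.isoMk (@asIso _ _ _ _ (pullback.fst v j)
      (MorphismProperty.pullback_fst (P := MorphismProperty.isomorphisms Scheme.{u}) _ _
        (inferInstanceAs (IsIso j))) ≪≫ V.left.isoSpec) ?_⟩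
    show (pullback.fst v j ≫ V.left.isoSpec.hom) ≫ Spec.map φ = pullback.snd v j
    rw [hφ, Category.assoc, Iso.hom_inv_id_assoc, ← Category.assoc, pullback.condition, Category.assoc,
      IsIso.hom_inv_id, Category.comp_id]

/-- Two finite étale objects with isomorphic generic fibres agree over the preimage open. -/
theorem nonempty_restrict_iso {A : Type u} [CommRing A] [IsDomain A] (F : A) (hF : F ≠ 0)
    {K : Type u} [CommRing K] [IsRegularLocalRing K] [IsDomain K] [Algebra A K]
    (hinjK : Function.Injective (algebraMap A K))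
    (AF : Type u) [CommRing AF] [Algebra A AF]
    (S : Type u) [Field S] [Algebra K S] [IsFractionRing K S] [Algebra AF S]
    (hS : ∀ a, algebraMap AF S (algebraMap A AF a) = algebraMap K S (algebraMap A K a))
    (j : Spec (CommRingCat.of AF) ⟶ (SGA1.specBasicOpen A F : Scheme.{u}))
    (hj : j ≫ (SGA1.specBasicOpen A F).ι = Spec.map (CommRingCat.ofHom (algebraMap A AF)))
    (V : FEt.Cat ((SGA1.specBasicOpen A F) : Scheme.{u}))
    (B : Type u) [CommRing B] [Algebra AF B] [Module.Finite AF B] [Algebra.Etale AF B]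
    (iV : (FEt.restrict j).obj V ≅ (FEt83.specFunctor AF).obj (op (CommAlgCat.FiniteEtale.of AF B)))
    (C : Type u) [CommRing C] [Algebra K C] [Module.Finite K C] [Algebra.Etale K C]
    (e : S ⊗[K] C ≃ₐ[S] S ⊗[AF] B) :
    Nonempty ((FEt.restrict ((Spec.map (CommRingCat.ofHom (algebraMap A K))) ⁻¹ᵁ (SGA1.specBasicOpen A F)).ι).obj
      ((FEt83.specFunctor K).obj (op (CommAlgCat.FiniteEtale.of K C))) ≅
      (FEt.restrict ((Spec.map (CommRingCat.ofHom (algebraMap A K))) ∣_ (SGA1.specBasicOpen A F))).obj V) := by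
  let U := SGA1.specBasicOpen A F
  let π := Spec.map (CommRingCat.ofHom (algebraMap A K))
  let P := π ⁻¹ᵁ U
  let η : Spec (CommRingCat.of S) ⟶ Spec (CommRingCat.of K) := Spec.map (CommRingCat.ofHom (algebraMap K S))
  have hη : IsPreimmersion η := IsPreimmersion.of_isLocalization (nonZeroDivisors K)
  have hηb : ∀ x, η x = (⊥ : PrimeSpectrum K) := fun x => by
    apply PrimeSpectrum.ext
    show Ideal.comap (algebraMap K S) x.asIdeal = ⊥
    rw [show x.asIdeal = ⊥ from (Ideal.eq_bot_or_top x.asIdeal).resolve_right x.isPrime.ne_top]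
    exact Ideal.comap_bot_of_injective _ (IsFractionRing.injective K S)
  have hbotU : (⊥ : PrimeSpectrum K) ∈ (P : Set (Spec (CommRingCat.of K))) := by
    show π (⊥ : PrimeSpectrum K) ∈ U
    show algebraMap A K F ∉ (⊥ : Ideal K)
    simpa using (map_ne_zero_iff _ hinjK).mpr hF
  have hsub : Set.range η ⊆ Set.range P.ι := by
    rw [Scheme.Opens.range_ι]
    rintro _ ⟨x, rfl⟩
    rw [hηb]
    exact hbotU
  let gη : Spec (CommRingCat.of S) ⟶ (P : Scheme.{u}) := IsOpenImmersion.lift P.ι η hsub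
  have hgη : gη ≫ P.ι = η := IsOpenImmersion.lift_fac _ _ _
  have : IsPreimmersion (gη ≫ P.ι) := hgη ▸ hη
  have : IsPreimmersion gη := IsPreimmersion.of_comp gη P.ι
  have : Nonempty (P : Scheme.{u}) := ⟨⟨(⊥ : PrimeSpectrum K), hbotU⟩⟩
  have : IsIntegral (Spec (CommRingCat.of K)) := inferInstance
  have : IsIntegral (P : Scheme.{u}) := isIntegral_of_isOpenImmersion P.ι
  have hP : Pi1.IsNormalScheme (P : Scheme.{u}) := fun x => by
    let p : PrimeSpectrum K := P.ι x
    have := CAlg1.regular_localization K p.asIdeal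
    have hd := CAlg1.isDomain_regular (Localization.AtPrime p.asIdeal)
    have hn := CAlg6.isIntegrallyClosed_of_regular (Localization.AtPrime p.asIdeal)
    let e' : (P : Scheme.{u}).presheaf.stalk x ≃+* Localization.AtPrime p.asIdeal :=
      (P.stalkIso x).commRingCatIsoToRingEquiv.trans (StructureSheaf.stalkIso K p).symm.toRingEquiv
    exact ⟨e'.toMulEquiv.isDomain, IsIntegrallyClosed.of_equiv e'.symm⟩
  have hgen : genericPoint (P : Scheme.{u}) ∈ Set.range gη := by
    refine ⟨(⊥ : PrimeSpectrum S), P.ι.isOpenEmbedding.injective ?_⟩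
    rw [genericPoint_eq_of_isOpenImmersion P.ι, genericPoint_eq_bot_of_affine, ← Scheme.Hom.comp_apply, hgη, hηb]
  obtain ⟨hfull, hfaith⟩ := FEt83.fullyFaithful_of_generic hP gη hgen
  have hcomm : gη ≫ (π ∣_ U) = Spec.map (CommRingCat.ofHom (algebraMap AF S)) ≫ j := by
    rw [← cancel_mono U.ι, Category.assoc, Category.assoc, morphismRestrict_ι, ← Category.assoc]
    show (gη ≫ P.ι) ≫ π = _
    rw [hgη, hj, ← Spec.map_comp, ← Spec.map_comp]
    congr 1
    ext a
    exact (hS a).symm
  let W := (FEt83.specFunctor K).obj (op (CommAlgCat.FiniteEtale.of K C))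
  let i₁ : (FEt.restrict gη).obj ((FEt.restrict P.ι).obj W) ≅
      (FEt83.specFunctor S).obj (op (CommAlgCat.FiniteEtale.of S (S ⊗[K] C))) :=
    ((FEt83.restrictCompIso gη P.ι).app W).symm ≪≫ FEt83.restrictEqIso hgη W ≪≫
      (FEt83.specFunctorRestrictIso K S).app (op (CommAlgCat.FiniteEtale.of K C))
  let i₂ : (FEt.restrict gη).obj ((FEt.restrict (π ∣_ U)).obj V) ≅
      (FEt83.specFunctor S).obj (op (CommAlgCat.FiniteEtale.of S (S ⊗[AF] B))) :=
    ((FEt83.restrictCompIso gη (π ∣_ U)).app V).symm ≪≫ FEt83.restrictEqIso hcomm V ≪≫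
      (FEt83.restrictCompIso (Spec.map (CommRingCat.ofHom (algebraMap AF S))) j).app V ≪≫
      (FEt.restrict _).mapIso iV ≪≫
      (FEt83.specFunctorRestrictIso AF S).app (op (CommAlgCat.FiniteEtale.of AF B))
  exact ⟨(FEt.restrict gη).preimageIso
    (i₁ ≪≫ (FEt83.specFunctor S).mapIso (CommAlgCat.FiniteEtale.isoMk e.symm).op ≪≫ i₂.symm)⟩

end Groth.Agent.Abh84
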