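import Groth.Agent.Abh84.Abhyankar

/-!
# Kummer coverings are cofinal among tame covers of a strictly henselian regular ring
-/

set_option autoImplicit false
universe u

open IsLocalRing TensorProduct CategoryTheory AlgebraicGeometry Limits Opposite

namespace Groth.Agent.Abh84

open Groth.Agent.KummerAlg84

/-- Opens of the spectrum of a regular local ring are normal. -/
theorem isNormalScheme_open {K : Type u} [CommRing K] [IsRegularLocalRing K]
    (P : (Spec (CommRingCat.of K)).Opens) : Pi1.IsNormalScheme (P : Scheme.{u}) := fun x => by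
  let p : PrimeSpectrum K := P.ι x
  have := CAlg1.regular_localization K p.asIdeal
  have hd := CAlg1.isDomain_regular (Localization.AtPrime p.asIdeal)
  have hn := CAlg6.isIntegrallyClosed_of_regular (Localization.AtPrime p.asIdeal)
  let e' : (P : Scheme.{u}).presheaf.stalk x ≃+* Localization.AtPrime p.asIdeal :=
    (P.stalkIso x).commRingCatIsoToRingEquiv.trans (StructureSheaf.stalkIso K p).symm.toRingEquiv
  exact ⟨e'.toMulEquiv.isDomain, IsIntegrallyClosed.of_equiv e'.symm⟩

/-- An algebra over a strictly henselian ring that is finite étale and nonzero has a section. -/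
theorem exists_section_of_split {K C : Type u} [CommRing K] [HenselianLocalRing K] [IsSepClosed (ResidueField K)]
    [CommRing C] [Algebra K C] [Module.Finite K C] [Algebra.Etale K C] [Nontrivial C] : Nonempty (C →ₐ[K] K) := by
  obtain ⟨ι, _, ⟨e⟩⟩ := SplitEtale84.exists_algEquiv_pi K C
  rcases isEmpty_or_nonempty ι with hι | ⟨⟨i⟩⟩
  · exact absurd (e.injective (Subsingleton.elim (e 0) (e 1))) zero_ne_one
  · exact ⟨(Pi.evalAlgHom K (fun _ => K) i).comp e.toAlgHom⟩

theorem exists_surjective_abstract {A : Type u} [CommRing A] [IsRegularLocalRing A] [IsDomain A] {r : ℕ}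
    {f : Fin r → A} [∀ i, (Ideal.span {f i}).IsPrime] (hf : IsParams f)
    (V : FEt.Cat ((SGA1.specBasicOpen A (∏ i, f i)) : Scheme.{u})) [ConnectedSpace V.left]
    (htame : SGA1.IsTameAlong f (((V.hom ≫ ((SGA1.specBasicOpen A (∏ i, f i))).ι).appTop).hom.comp
      (Scheme.ΓSpecIso (CommRingCat.of A)).inv.hom)) :
    ∃ n : Fin r → ℕ, (∀ i, 1 ≤ n i) ∧ (∀ i, IsUnit (n i : A)) ∧
      ∀ (K : Type u) [CommRing K] [IsRegularLocalRing K] [IsDomain K] [HenselianLocalRing K]
        [IsSepClosed (ResidueField K)] [Algebra A K] [Module.Finite A K]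
        (_ : Function.Injective (algebraMap A K)) (T : Fin r → K) (_ : ∀ i, T i ^ n i = algebraMap A K (f i)),
        ∃ φ : (↑((Spec.map (CommRingCat.ofHom (algebraMap A K))) ⁻¹ᵁ (SGA1.specBasicOpen A (∏ i, f i))) :
            Scheme.{u}) ⟶ V.left,
          φ ≫ V.hom = (Spec.map (CommRingCat.ofHom (algebraMap A K))) ∣_ (SGA1.specBasicOpen A (∏ i, f i)) ∧
            Surjective φ := by
  obtain ⟨n, hn, hu, h⟩ := exists_extension_abstract hf V htame
  refine ⟨n, hn, hu, ?_⟩
  intro K _ _ _ _ _ _ _ hinjK T hT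
  obtain ⟨C, _, _, _, _, ⟨iso⟩⟩ := h K hinjK T hT
  let U := SGA1.specBasicOpen A (∏ i, f i)
  let π := Spec.map (CommRingCat.ofHom (algebraMap A K))
  let P := π ⁻¹ᵁ U
  have hF : ∏ i, f i ≠ 0 := Finset.prod_ne_zero_iff.mpr fun i _ => hf.ne_zero i
  have hA : (⊥ : PrimeSpectrum A) ∈ (U : Set (Spec (CommRingCat.of A))) :=
    fun h0 => hF ((Submodule.mem_bot A).mp h0)
  have hπ0 : π (⊥ : PrimeSpectrum K) = (⊥ : PrimeSpectrum A) :=
    PrimeSpectrum.ext (Ideal.comap_bot_of_injective _ hinjK)
  have hK : (⊥ : PrimeSpectrum K) ∈ (P : Set (Spec (CommRingCat.of K))) := by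
    show π (⊥ : PrimeSpectrum K) ∈ U
    rw [hπ0]
    exact hA
  let p₀ : (P : Scheme.{u}) := ⟨(⊥ : PrimeSpectrum K), hK⟩
  have : Nonempty (U : Scheme.{u}) := ⟨⟨(⊥ : PrimeSpectrum A), hA⟩⟩
  have : IsIntegral (U : Scheme.{u}) := isIntegral_of_isOpenImmersion U.ι
  have hU : Pi1.IsNormalScheme (U : Scheme.{u}) := isNormalScheme_open U
  have hgenU : (π ∣_ U) p₀ = genericPoint (U : Scheme.{u}) := by
    apply U.ι.isOpenEmbedding.injective
    rw [genericPoint_eq_of_isOpenImmersion U.ι, genericPoint_eq_bot_of_affine, ← Scheme.Hom.comp_apply,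
      morphismRestrict_ι]
    exact hπ0
  let v : V.left ⟶ (U : Scheme.{u}) := V.hom
  have hvfin : IsFinite v := V.prop.1
  have : IsIntegral V.left := FEt83.isIntegral_cover hU V
  obtain ⟨y⟩ : Nonempty V.left := inferInstance
  obtain ⟨g, -, hg⟩ := FEt83.exists_generization V y
  have hvsurj : Surjective v := by
    refine ⟨fun u => ?_⟩
    have hcl : IsClosed (Set.range v) := v.isClosedMap.isClosed_range
    exact ((genericPoint_spec (U : Scheme.{u})).specializes (by trivial)).mem_closed hcl ⟨g, hg⟩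
  have : Surjective (pullback.snd v (π ∣_ U)) := MorphismProperty.pullback_snd _ _ hvsurj
  obtain ⟨q, -⟩ := (pullback.snd v (π ∣_ U)).surjective p₀
  let W := (FEt83.specFunctor K).obj (op (CommAlgCat.FiniteEtale.of K C))
  let w : Spec (CommRingCat.of C) ⟶ Spec (CommRingCat.of K) := Spec.map (CommRingCat.ofHom (algebraMap K C))
  let iinv : pullback v (π ∣_ U) ⟶ pullback w P.ι := iso.inv.left
  have hq : Nonempty (PrimeSpectrum C) := ⟨pullback.fst w P.ι (iinv q)⟩
  have : Nontrivial C := PrimeSpectrum.nonempty_iff_nontrivial.mp hq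
  obtain ⟨s⟩ := exists_section_of_split (K := K) (C := C)
  have hs : Spec.map (CommRingCat.ofHom s.toRingHom) ≫ w = 𝟙 _ := by
    rw [← Spec.map_comp, ← CommRingCat.ofHom_comp, show s.toRingHom.comp (algebraMap K C) = RingHom.id K from
      s.comp_algebraMap, CommRingCat.ofHom_id, Spec.map_id]
  let σ : (P : Scheme.{u}) ⟶ pullback w P.ι :=
    pullback.lift (P.ι ≫ Spec.map (CommRingCat.ofHom s.toRingHom)) (𝟙 _) (by
      rw [Category.assoc, hs, Category.comp_id, Category.id_comp])
  let ihom : pullback w P.ι ⟶ pullback v (π ∣_ U) := iso.hom.left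
  have hihom : ihom ≫ pullback.snd v (π ∣_ U) = pullback.snd w P.ι := Over.w iso.hom.hom
  let φ : (P : Scheme.{u}) ⟶ V.left := σ ≫ ihom ≫ pullback.fst v (π ∣_ U)
  have hφ : φ ≫ v = π ∣_ U := by
    show (σ ≫ ihom ≫ pullback.fst v (π ∣_ U)) ≫ v = _
    rw [Category.assoc, Category.assoc, pullback.condition, reassoc_of% hihom, pullback.lift_snd_assoc,
      Category.id_comp]
  refine ⟨φ, hφ, ⟨fun z => ?_⟩⟩
  have hπfin : IsFinite π := (IsFinite.SpecMap_iff _).mpr (RingHom.finite_algebraMap.mpr inferInstance)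
  have : IsFinite (φ ≫ v) := by rw [hφ]; exact IsZariskiLocalAtTarget.restrict hπfin U
  have : IsFinite φ := IsFinite.of_comp φ v
  have hgen : φ p₀ = genericPoint V.left := by
    refine (FEt83.eq_of_specializes_generic V ((genericPoint_spec V.left).specializes (by trivial)) ?_).symm
    show v (φ p₀) = _
    rw [← Scheme.Hom.comp_apply, hφ]
    exact hgenU
  have hcl : IsClosed (Set.range φ) := φ.isClosedMap.isClosed_range
  exact ((genericPoint_spec V.left).specializes (by trivial)).mem_closed hcl ⟨p₀, hgen⟩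

end Groth.Agent.Abh84
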