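import Groth.Agent.Abh84.CoverModel
import Groth.Agent.Abh84.CoverImage
import Mathlib.RingTheory.Flat.FaithfullyFlat.Basic

/-!
# A tame cover of a strictly henselian regular ring embeds in a Kummer algebra
-/

set_option autoImplicit false
universe u

open IsLocalRing TensorProduct

namespace Groth.Agent.Abh84

open Groth.Agent.KummerAlg84

/-- Tameness only depends on the field up to isomorphism. -/
theorem tame_of_bijective {A L L' : Type u} [CommRing A] [IsDomain A] [IsDiscreteValuationRing A] [Field L]
    [Field L'] {g : A →+* L} (i : L →+* L') (hi : Function.Bijective i) (hg : Function.Injective g)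
    (hdvr : ∀ W : ValuationSubring L', EtRam.Dominates A (i.comp g) W → IsDiscreteValuationRing W)
    (h : EtRam.IsTamelyRamified A g) : EtRam.IsTamelyRamified A (i.comp g) := by
  have hbij : ∀ W : ValuationSubring L', Function.Bijective (EtRam.inclOfComap W i) := fun W => by
    refine ⟨EtRam26.inclOfComap_injective i W, fun w => ?_⟩
    obtain ⟨x, hx⟩ := hi.2 w.1
    exact ⟨⟨x, show i x ∈ W by rw [hx]; exact w.2⟩, Subtype.ext hx⟩
  have hdvr' : ∀ V : ValuationSubring L, EtRam.Dominates A g V → IsDiscreteValuationRing V := fun V hV => by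
    obtain ⟨W, rfl⟩ := EtRam26.exists_comap_eq i V
    have := hdvr W (EtRam26.dominates_of_comap i hV)
    exact IsDiscreteValuationRing.RingEquivClass.isDiscreteValuationRing (RingEquiv.ofBijective _ (hbij W)).symm
  have hig : Function.Injective (i.comp g) := i.injective.comp hg
  rw [EtRam26.isTamelyRamified_iff hig hdvr]
  intro W hW
  have hV := EtRam26.dominates_comap i hW
  obtain ⟨e, he, hram, hne⟩ := (EtRam26.isTamelyRamified_iff hg hdvr').mp h _ hV
  refine ⟨e, he, ?_, hne⟩
  rw [EtRam26.codRestrict_comp i W hV hW]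
  have h1 : EtRam26.RamHom (EtRam.inclOfComap W i) 1 := EtRam26.ramHom_equiv (RingEquiv.ofBijective _ (hbij W))
  simpa using hram.comp h1

variable {A : Type u} [CommRing A] [IsRegularLocalRing A] [IsDomain A] {r : ℕ} {f : Fin r → A}
  [∀ i, (Ideal.span {f i}).IsPrime]
  (AF : Type u) [CommRing AF] [Algebra A AF] [IsLocalization.Away (∏ i, f i) AF]
  (B : Type u) [CommRing B] [IsDomain B] [Algebra A B] [Module.Finite A B] [Module.Free A B]
  [Algebra.Etale AF (AF ⊗[A] B)]

include f AF in
theorem tame_tensor (hf : IsParams f) (hinj : Function.Injective (algebraMap A B))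
    (htame : SGA1.IsTameAlong f (algebraMap A B)) : SGA1.IsTameAlong f (algebraMap A (AF ⊗[A] B)) := by
  intro i q hqp hq
  let BT := AF ⊗[A] B
  let A₁ := Localization.AtPrime (Ideal.span {f i})
  let ir : B →ₐ[A] BT := Algebra.TensorProduct.includeRight
  obtain ⟨hdom, hdvr, hπ, hinjA⟩ := isDVR_localization (hf.ne_zero i)
  have hq0 : q.comap ir.toRingHom = ⊥ := by
    refine Ideal.eq_bot_of_comap_eq_bot (R := A) ?_
    rw [Ideal.comap_comap, show ir.toRingHom.comp (algebraMap A B) = algebraMap A BT from RingHom.ext ir.commutes]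
    exact hq
  have hb0 : (⊥ : Ideal B).comap (algebraMap A B) = ⊥ := Ideal.comap_bot_of_injective _ hinj
  let i₀ : (⊥ : Ideal B).ResidueField →+* q.ResidueField :=
    Ideal.ResidueField.lift ⊥ ((algebraMap BT q.ResidueField).comp ir.toRingHom) bot_le fun b hb =>
      isUnit_iff_ne_zero.mpr fun h0 => hb (hq0.le (show ir b ∈ q from (Ideal.algebraMap_residueField_eq_zero (I := q)).mp h0))
  have hi₀ : ∀ b, i₀ (algebraMap B _ b) = algebraMap BT q.ResidueField (ir b) := fun b =>
    Ideal.ResidueField.lift_algebraMap _ _ _ _ b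
  have hF : ∀ a : A, a ≠ 0 → algebraMap A q.ResidueField a ≠ 0 := fun a ha h0 => by
    rw [IsScalarTower.algebraMap_apply A BT q.ResidueField, Ideal.algebraMap_residueField_eq_zero] at h0
    exact ha ((Submodule.mem_bot A).mp (hq.le h0))
  have hden : ∀ x : BT, ∃ (s : A) (b : B), s ≠ 0 ∧ algebraMap A BT s * x = ir b := by
    intro x
    induction x using TensorProduct.induction_on with
    | zero => exact ⟨1, 0, one_ne_zero, by simp⟩
    | tmul a b =>
      obtain ⟨k, c, hc⟩ := IsLocalization.Away.surj (∏ i, f i) a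
      refine ⟨(∏ i, f i) ^ k, algebraMap A B c * b,
        pow_ne_zero _ (Finset.prod_ne_zero_iff.mpr fun i _ => hf.ne_zero i), ?_⟩
      show algebraMap A (AF ⊗[A] B) _ * (a ⊗ₜ b) = (1 : AF) ⊗ₜ[A] (algebraMap A B c * b)
      rw [Algebra.TensorProduct.algebraMap_apply, Algebra.TensorProduct.tmul_mul_tmul, one_mul, mul_comm, map_pow,
        hc, ← Algebra.smul_def c b, tmul_smul, smul_tmul', Algebra.smul_def, mul_one]
    | add x y hx hy =>
      obtain ⟨s, b, hs, hb⟩ := hx
      obtain ⟨t, c, ht, hc⟩ := hy
      refine ⟨s * t, algebraMap A B t * b + algebraMap A B s * c, mul_ne_zero hs ht, ?_⟩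
      simp only [map_add, map_mul, AlgHom.commutes, ← hb, ← hc]
      ring
  have hbij : Function.Bijective i₀ := by
    refine ⟨i₀.injective, fun y => ?_⟩
    obtain ⟨a, b, hb, hy⟩ := exists_residue_frac q y
    obtain ⟨s, a', hs, ha'⟩ := hden a
    obtain ⟨t, b', ht, hb'⟩ := hden b
    refine ⟨algebraMap B _ (algebraMap A B t * a') / algebraMap B _ (algebraMap A B s * b'), ?_⟩
    rw [map_div₀, hi₀, hi₀, map_mul ir, map_mul ir, ir.commutes, ir.commutes, ← ha', ← hb', map_mul, map_mul,
      map_mul, map_mul, ← hy, ← IsScalarTower.algebraMap_apply A BT q.ResidueField,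
      ← IsScalarTower.algebraMap_apply A BT q.ResidueField]
    rw [div_eq_iff (mul_ne_zero (hF s hs) (mul_ne_zero (hF t ht) hb))]
    ring
  let g := SGA1.genericResidueMap (algebraMap A B) (Ideal.span {f i}) ⊥ hb0
  let g' := SGA1.genericResidueMap (algebraMap A BT) (Ideal.span {f i}) q hq
  have hcomp : i₀.comp g = g' := IsLocalization.ringHom_ext (Ideal.span {f i}).primeCompl (RingHom.ext fun a => by
    show i₀ (g (algebraMap A A₁ a)) = g' (algebraMap A A₁ a)
    rw [genericResidueMap_algebraMap, hi₀, ir.commutes, genericResidueMap_algebraMap])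
  have hg : Function.Injective g := by
    rw [injective_iff_map_eq_zero]
    intro x hx
    obtain ⟨a, s, rfl⟩ := IsLocalization.exists_mk'_eq (Ideal.span {f i}).primeCompl x
    have h0 := congrArg g (IsLocalization.mk'_spec A₁ a s)
    rw [map_mul, hx, zero_mul, genericResidueMap_algebraMap] at h0
    rw [generic_injective (algebraMap A B) ⊥ hb0 (h0.symm.trans (map_zero _).symm), IsLocalization.mk'_zero]
  obtain ⟨hfd, hsep⟩ := residueField_finite_separable (f := f) AF BT q hq
  let KA := FractionRing A
  let : Algebra A₁ KA := IsLocalization.localizationAlgebraOfSubmonoidLe A₁ KA (Ideal.span {f i}).primeCompl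
    (nonZeroDivisors A) (Ideal.span {f i}).primeCompl_le_nonZeroDivisors
  have : IsScalarTower A A₁ KA := IsLocalization.localization_isScalarTower_of_submonoid_le A₁ KA
    (Ideal.span {f i}).primeCompl (nonZeroDivisors A) (Ideal.span {f i}).primeCompl_le_nonZeroDivisors
  have : IsFractionRing A₁ KA :=
    IsFractionRing.isFractionRing_of_isDomain_of_isLocalization (Ideal.span {f i}).primeCompl A₁ KA
  let : Algebra KA q.ResidueField :=
    (IsFractionRing.lift (K := KA) (generic_injective (algebraMap A BT) q hq)).toAlgebra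
  let : Algebra A₁ q.ResidueField := g'.toAlgebra
  have : IsScalarTower A₁ KA q.ResidueField := .of_algebraMap_eq' (IsLocalization.ringHom_ext
    (Ideal.span {f i}).primeCompl (RingHom.ext fun a => by
      show g' (algebraMap A A₁ a) = algebraMap KA q.ResidueField (algebraMap A₁ KA (algebraMap A A₁ a))
      rw [genericResidueMap_algebraMap, ← IsScalarTower.algebraMap_apply A A₁ KA]
      exact (IsFractionRing.lift_algebraMap (generic_injective (algebraMap A BT) q hq) a).symm))
  have hdvrV : ∀ V' : ValuationSubring q.ResidueField, EtRam.Dominates A₁ g' V' → IsDiscreteValuationRing V' :=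
    fun V' hV' => EtRam26.dvr_of_dominates (A := A₁) (K := KA) V' hV'
  show EtRam.IsTamelyRamified A₁ g'
  rw [← hcomp] at hdvrV ⊢
  exact tame_of_bijective i₀ hbij hg hdvrV (htame i ⊥ hb0)

set_option backward.isDefEq.respectTransparency.types false in
include f AF in
/-- The cover maps into the Kummer algebra. -/
theorem exists_embedding_abstract (hf : IsParams f)
    {n : Fin r → ℕ} (hn : ∀ i, 1 ≤ n i) (hne : ∀ i, (n i : A) ≠ 0)
    (hdiv : DivAt (f := f) (AF ⊗[A] B) n) {K : Type u} [CommRing K] [IsRegularLocalRing K] [IsDomain K]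
    [HenselianLocalRing K] [IsSepClosed (ResidueField K)] [Algebra A K]
    [Module.Finite A K] (hinjK : Function.Injective (algebraMap A K)) (T : Fin r → K)
    (hT : ∀ i, T i ^ n i = algebraMap A K (f i))
    (S : Type u) [Field S] [Algebra K S] [IsFractionRing K S] [Algebra AF S]
    (hS : ∀ a, algebraMap AF S (algebraMap A AF a) = algebraMap K S (algebraMap A K a)) :
    ∃ j : B →ₐ[A] K, Function.Injective j := by
  have : Nontrivial AF := (algebraMap AF S).domain_nontrivial
  have : Module.Free A B := inferInstance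
  have : Nontrivial (AF ⊗[A] B) := by
    have : Module.FaithfullyFlat A B := inferInstance
    exact (Module.FaithfullyFlat.nontrivial_tensorProduct_iff_left ..).mpr inferInstance
  have : Module.Free AF (AF ⊗[A] B) := inferInstance
  obtain ⟨C, _, _, _, _, ⟨e⟩⟩ := exists_model AF (AF ⊗[A] B) hf hn hne hdiv hinjK T hT S hS
  have : Nontrivial (S ⊗[AF] (AF ⊗[A] B)) := by
    have : Module.FaithfullyFlat AF (AF ⊗[A] B) := inferInstance
    exact (Module.FaithfullyFlat.nontrivial_tensorProduct_iff_left ..).mpr inferInstance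
  have : Nontrivial C := by
    by_contra hC
    rw [not_nontrivial_iff_subsingleton] at hC
    exact not_subsingleton (S ⊗[AF] (AF ⊗[A] B)) e.toEquiv.symm.subsingleton
  obtain ⟨ι, _, ⟨eC⟩⟩ := SplitEtale84.exists_algEquiv_pi K C
  obtain ⟨i⟩ : Nonempty ι := by
    by_contra hι
    rw [not_nonempty_iff] at hι
    exact zero_ne_one (eC.injective (Subsingleton.elim (eC 0) (eC 1)))
  let s : C →ₐ[K] K := (Pi.evalAlgHom K (fun _ => K) i).comp eC.toAlgHom
  let Θ : S ⊗[K] C →ₐ[S] S :=
    Algebra.TensorProduct.lift (Algebra.ofId S S) ((IsScalarTower.toAlgHom K K S).comp s) fun _ _ => .all _ _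
  let ρ : S ⊗[AF] (AF ⊗[A] B) →ₐ[S] S := Θ.comp e.symm.toAlgHom
  let jS : B →+* S := (ρ.toRingHom.comp
    (Algebra.TensorProduct.includeRight (R := AF) (A := S) (B := AF ⊗[A] B)).toRingHom).comp
      (Algebra.TensorProduct.includeRight (R := A) (A := AF) (B := B)).toRingHom
  have hjS : ∀ a, jS (algebraMap A B a) = algebraMap K S (algebraMap A K a) := fun a => by
    show ρ (Algebra.TensorProduct.includeRight ((Algebra.TensorProduct.includeRight (R := A) (A := AF) (B := B))
      (algebraMap A B a))) = _
    rw [AlgHom.commutes, IsScalarTower.algebraMap_apply A AF (AF ⊗[A] B), AlgHom.commutes,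
      IsScalarTower.algebraMap_apply AF S (S ⊗[AF] (AF ⊗[A] B)), ρ.commutes, hS]
    rfl
  have hmem : ∀ b, ∃ k, algebraMap K S k = jS b := fun b => by
    have := CAlg6.isIntegrallyClosed_of_regular K
    refine IsIntegrallyClosed.isIntegral_iff.mp ?_
    obtain ⟨P, hP, hP0⟩ := Algebra.IsIntegral.isIntegral (R := A) b
    refine ⟨P.map (algebraMap A K), hP.map _, ?_⟩
    rw [Polynomial.eval₂_map, show (algebraMap K S).comp (algebraMap A K) = jS.comp (algebraMap A B) from
      RingHom.ext fun a => (hjS a).symm, ← Polynomial.hom_eval₂, hP0, map_zero]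
  choose j hj using hmem
  have hKS := IsFractionRing.injective K S
  let jK : B →ₐ[A] K :=
    { toFun := j
      map_one' := hKS (by rw [hj, map_one, map_one])
      map_mul' := fun x y => hKS (by rw [hj, map_mul, map_mul, hj, hj])
      map_zero' := hKS (by rw [hj, map_zero, map_zero])
      map_add' := fun x y => hKS (by rw [hj, map_add, map_add, hj, hj])
      commutes' := fun a => hKS (by rw [hj, hjS]) }
  refine ⟨jK, ?_⟩
  show Function.Injective jK.toRingHom
  rw [RingHom.injective_iff_ker_eq_bot]
  have : (RingHom.ker jK.toRingHom).IsPrime := RingHom.ker_isPrime _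
  refine Ideal.eq_bot_of_comap_eq_bot (R := A) ?_
  rw [RingHom.comap_ker, show jK.toRingHom.comp (algebraMap A B) = algebraMap A K from RingHom.ext jK.commutes,
    ← RingHom.injective_iff_ker_eq_bot]
  exact hinjK

end Groth.Agent.Abh84
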