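import Groth.Agent.Abh84.KummerReg
import Mathlib.RingTheory.IntegralClosure.IntegrallyClosed
import Mathlib.FieldTheory.IsSepClosed
import Mathlib.RingTheory.Henselian
import Mathlib.RingTheory.UniqueFactorizationDomain.Basic

/-!
# Roots of the parameters in a regular cover dominated by a Kummer algebra
-/

set_option autoImplicit false
universe u

open IsLocalRing Polynomial

namespace Groth.Agent.Abh84

/-- Units of a strictly henselian ring have roots of every invertible order. -/
theorem exists_unit_root {R : Type u} [CommRing R] [HenselianLocalRing R] [IsSepClosed (ResidueField R)]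
    {e : ℕ} (he : IsUnit (e : R)) (w : Rˣ) : ∃ v : R, v ^ e = w := by
  have hne : (e : ResidueField R) ≠ 0 := by simpa using (he.map (residue R)).ne_zero
  have he0 : e ≠ 0 := fun h => hne (by simp [h])
  have : NeZero (e : ResidueField R) := ⟨hne⟩
  obtain ⟨z, hz⟩ := IsSepClosed.exists_pow_nat_eq (residue R w) e
  obtain ⟨a₀, rfl⟩ := residue_surjective z
  have h1 : eval a₀ (X ^ e - C (w : R)) ∈ maximalIdeal R := by
    rw [← residue_eq_zero_iff, eval_sub, eval_pow, eval_X, eval_C, map_sub, map_pow, hz, sub_self]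
  have ha₀ : IsUnit a₀ := by
    rw [← residue_ne_zero_iff_isUnit]
    intro h0
    rw [h0, zero_pow he0] at hz
    exact (residue_ne_zero_iff_isUnit _).mpr w.isUnit hz.symm
  have h2 : IsUnit (eval a₀ (derivative (X ^ e - C (w : R)))) := by
    rw [derivative_sub, derivative_C, sub_zero, derivative_X_pow, eval_mul, eval_C, eval_pow, eval_X]
    exact he.mul (ha₀.pow _)
  obtain ⟨v, hv, -⟩ := HenselianLocalRing.is_henselian _ (monic_X_pow_sub_C (w : R) he0) a₀ h1 h2
  refine ⟨v, sub_eq_zero.mp ?_⟩
  simpa using hv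

/-- An element of a factorial cover which becomes a prime power upstairs is an exact power. -/
theorem exists_root_of_prime_pow {B K : Type u} [CommRing B] [IsDomain B] [UniqueFactorizationMonoid B]
    [IsIntegrallyClosed B] [HenselianLocalRing B] [IsSepClosed (ResidueField B)] [CommRing K] [IsDomain K]
    (j : B →+* K) (hj : Function.Injective j) (hint : j.IsIntegral) {T : K} (hT : Prime T) {n : ℕ} (hn : 1 ≤ n)
    (hu : IsUnit (n : B)) {b : B} (hb : j b = T ^ n) :
    ∃ (e : ℕ) (π : B), 1 ≤ e ∧ IsUnit (e : B) ∧ Prime π ∧ π ^ e = b := by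
  have : IsLocalHom j := hint.isLocalHom hj
  have hb0 : b ≠ 0 := fun h => pow_ne_zero n hT.ne_zero (by rw [← hb, h, map_zero])
  have hbu : ¬ IsUnit b := fun h => by
    have := h.map j
    rw [hb] at this
    exact hT.not_unit ((isUnit_pow_iff (by omega)).mp this)
  have key : ∀ p : B, Prime p → p ∣ b → ∃ k, 1 ≤ k ∧ Associated (j p) (T ^ k) := fun p hp hpb => by
    obtain ⟨k, -, hk⟩ := (dvd_prime_pow hT n).mp (hb ▸ map_dvd j hpb)
    refine ⟨k, Nat.one_le_iff_ne_zero.mpr fun h => ?_, hk⟩
    rw [h, pow_zero] at hk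
    exact hp.not_unit (isUnit_of_map_unit j p (associated_one_iff_isUnit.mp hk))
  obtain ⟨π, hπ, hπb⟩ := WfDvdMonoid.exists_irreducible_factor hbu hb0
  have hπp : Prime π := UniqueFactorizationMonoid.irreducible_iff_prime.mp hπ
  obtain ⟨k, hk, hkπ⟩ := key π hπp hπb
  have uniq : ∀ p : B, Prime p → p ∣ b → Associated p π := fun p hp hpb => by
    obtain ⟨l, -, hlp⟩ := key p hp hpb
    have hass : Associated (j (p ^ k)) (j (π ^ l)) := by
      rw [map_pow, map_pow]
      refine (hlp.pow_pow).trans ?_
      rw [← pow_mul, mul_comm, pow_mul]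
      exact hkπ.symm.pow_pow
    obtain ⟨u, hu'⟩ := hass
    let L := FractionRing B
    let M := FractionRing K
    have hjM : Function.Injective ((algebraMap K M).comp j) := (IsFractionRing.injective K M).comp hj
    let j' : L →+* M := IsFractionRing.lift hjM
    have hj' : ∀ c, j' (algebraMap B L c) = algebraMap K M (j c) := IsFractionRing.lift_algebraMap hjM
    have hp0 : algebraMap B L (p ^ k) ≠ 0 :=
      (map_ne_zero_iff _ (IsFractionRing.injective B L)).mpr (pow_ne_zero _ hp.ne_zero)
    let y : L := algebraMap B L (π ^ l) / algebraMap B L (p ^ k)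
    have hy : j' y = algebraMap K M u := by
      rw [map_div₀, hj', hj', ← hu', map_mul, mul_div_cancel_left₀]
      exact (map_ne_zero_iff _ hjM).mpr (pow_ne_zero _ hp.ne_zero)
    have hyint : IsIntegral B y := by
      obtain ⟨P, hP, hPu⟩ := hint (u : K)
      refine ⟨P, hP, j'.injective ?_⟩
      rw [map_zero, hom_eval₂, hy, show j'.comp (algebraMap B L) = (algebraMap K M).comp j from RingHom.ext hj',
        ← hom_eval₂, hPu, map_zero]
    obtain ⟨x, hx⟩ := IsIntegrallyClosed.isIntegral_iff.mp hyint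
    have hdiv : p ∣ π ^ l := by
      refine (dvd_pow_self p (by omega : k ≠ 0)).trans ⟨x, IsFractionRing.injective B L ?_⟩
      rw [map_mul, hx, mul_div_cancel₀ _ hp0]
    exact hp.irreducible.associated_of_dvd hπ (hp.dvd_of_dvd_pow hdiv)
  obtain ⟨e, c, hnd, hbc⟩ := WfDvdMonoid.max_power_factor hb0 hπ
  have hc : IsUnit c := by
    by_contra hc
    obtain ⟨p, hp, hpc⟩ := WfDvdMonoid.exists_irreducible_factor hc fun h => hb0 (by rw [hbc, h, mul_zero])
    exact hnd ((uniq p (UniqueFactorizationMonoid.irreducible_iff_prime.mp hp)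
      (hbc ▸ dvd_mul_of_dvd_right hpc _)).symm.dvd.trans hpc)
  have he : 1 ≤ e := Nat.one_le_iff_ne_zero.mpr fun h => by
    rw [h, pow_zero, one_mul] at hbc
    exact hbu (hbc ▸ hc)
  have hke : n = k * e := by
    have h1 : Associated (T ^ n) (T ^ (k * e)) := by
      rw [← hb, hbc, map_mul, map_pow, pow_mul]
      exact (associated_mul_unit_left _ _ (hc.map j)).trans hkπ.pow_pow
    exact le_antisymm ((pow_dvd_pow_iff hT.ne_zero hT.not_unit).mp h1.dvd)
      ((pow_dvd_pow_iff hT.ne_zero hT.not_unit).mp h1.symm.dvd)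
  have heu : IsUnit (e : B) := by
    rw [hke, Nat.cast_mul] at hu
    exact isUnit_of_mul_isUnit_right hu
  obtain ⟨v, hv⟩ := exists_unit_root heu hc.unit
  have hvu : IsUnit v := (isUnit_pow_iff (by omega : e ≠ 0)).mp (hv ▸ hc.unit.isUnit)
  refine ⟨e, π * v, he, heu, (associated_mul_unit_right π v hvu).prime hπp, ?_⟩
  rw [mul_pow, hv, IsUnit.unit_spec, hbc]

end Groth.Agent.Abh84
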