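import Groth.Agent.Abh84.KummerEmbed
import Groth.Agent.Abh84.KummerRoots
import Groth.Agent.Pure83.BranchRegular
import Groth.Agent.RegUFD52.Basic

/-!
# Regular tame covers of strictly henselian regular rings are Kummer coverings
-/

set_option autoImplicit false
universe u

open IsLocalRing TensorProduct

namespace Groth.Agent.Abh84

open Groth.Agent.KummerAlg84

/-- The residue field at a parameter root is separable over that of the parameter. -/
theorem residue_separable {A : Type u} [CommRing A] [IsLocalRing A] {r : ℕ} {f : Fin r → A} (hf : IsParams f)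
    {n : Fin r → ℕ} (hn : ∀ i, 1 ≤ n i) (hu : ∀ i, IsUnit (n i : A)) {K : Type u} [CommRing K] [Algebra A K]
    (T : Fin r → K) (hT : ∀ i, T i ^ n i = algebraMap A K (f i)) (hgen : Algebra.adjoin A (Set.range T) = ⊤)
    (i : Fin r) [(Ideal.span {f i}).IsPrime] [(Ideal.span {T i}).IsPrime]
    (h : Ideal.span {f i} = (Ideal.span {T i}).comap (algebraMap A K)) :
    EtRam26.SepHom (Ideal.ResidueField.map _ _ (algebraMap A K) h) := by
  let κ := (Ideal.span {f i}).ResidueField
  let κ' := (Ideal.span {T i}).ResidueField
  let φ : κ →+* κ' := Ideal.ResidueField.map _ _ (algebraMap A K) h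
  let _ : Algebra κ κ' := φ.toAlgebra
  have hφ : ∀ a, algebraMap κ κ' (algebraMap A κ a) = algebraMap K κ' (algebraMap A K a) := fun a =>
    Ideal.ResidueField.map_algebraMap _ _ (algebraMap A K) h a
  have hother : ∀ j, f j ∈ Ideal.span {f i} → j = i := by
    intro j hjP
    by_contra hji
    obtain ⟨c, hc⟩ := Ideal.mem_span_singleton'.mp hjP
    have h0 := congrArg ((maximalIdeal A).toCotangent) (Subtype.ext hc.symm : (⟨f j, hf.mem j⟩ : maximalIdeal A) = c • ⟨f i, hf.mem i⟩)
    rw [map_smul, ← IsScalarTower.algebraMap_smul (ResidueField A) c] at h0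
    have h1 := hf.li (a₁ := Finsupp.single j 1) (a₂ := Finsupp.single i (algebraMap A (ResidueField A) c))
      (by simpa [Finsupp.linearCombination_single] using h0)
    have h2 := congrArg (fun v : Fin r →₀ ResidueField A => v j) h1
    simp [Finsupp.single_eq_of_ne hji] at h2
  have hsepT : ∀ j, algebraMap K κ' (T j) ∈ separableClosure κ κ' := by
    intro j
    by_cases hj : f j ∈ Ideal.span {f i}
    · obtain rfl := hother j hj
      have : algebraMap K κ' (T j) = 0 :=
        Ideal.algebraMap_residueField_eq_zero.mpr (Ideal.mem_span_singleton_self _)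
      rw [this]
      exact zero_mem _
    · rw [mem_separableClosure_iff]
      refine Polynomial.Separable.of_dvd (Polynomial.separable_X_pow_sub_C (algebraMap A κ (f j)) (n := n j) ?_ ?_)
        (minpoly.dvd κ _ ?_)
      · rw [← map_natCast (algebraMap A κ)]
        exact ((hu j).map _).ne_zero
      · exact fun h0 => hj (Ideal.algebraMap_residueField_eq_zero.mp h0)
      · rw [map_sub, map_pow, Polynomial.aeval_X, Polynomial.aeval_C, hφ, ← map_pow, hT, sub_self]
  have hmem : ∀ k : K, algebraMap K κ' k ∈ separableClosure κ κ' := by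
    intro k
    have hk : k ∈ Algebra.adjoin A (Set.range T) := hgen.ge Algebra.mem_top
    induction hk using Algebra.adjoin_induction with
    | mem y hy => obtain ⟨j, rfl⟩ := hy; exact hsepT j
    | algebraMap a => rw [← hφ]; exact (separableClosure κ κ').algebraMap_mem _
    | add a b _ _ ha hb => rw [map_add]; exact add_mem ha hb
    | mul a b _ _ ha hb => rw [map_mul]; exact mul_mem ha hb
  refine ⟨fun y => ?_⟩
  rw [← mem_separableClosure_iff]
  obtain ⟨a, b, hb, hy⟩ := exists_residue_frac _ y
  rw [eq_div_iff hb |>.mpr hy]
  exact div_mem (hmem a) (hmem b)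

variable {A : Type u} [CommRing A] [IsRegularLocalRing A] [IsDomain A] {r : ℕ} {f : Fin r → A}
  [∀ i, (Ideal.span {f i}).IsPrime]
  (AF : Type u) [CommRing AF] [Algebra A AF] [IsLocalization.Away (∏ i, f i) AF]

set_option backward.isDefEq.respectTransparency.types false in
include f AF in
/-- The algebra generated by exact roots of the parameters is the whole cover. -/
theorem bijective_of_roots (hf : IsParams f)
    (B : Type u) [CommRing B] [IsDomain B] [Algebra A B] [Module.Finite A B] [IsRegularLocalRing B]
    [Algebra.Etale AF (AF ⊗[A] B)]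
    {E : Type u} [CommRing E] [IsRegularLocalRing E] [IsDomain E] [HenselianLocalRing E]
    [IsSepClosed (ResidueField E)] [Algebra A E] [Module.Finite A E]
    (hinjE : Function.Injective (algebraMap A E)) [Algebra E B] [IsScalarTower A E B]
    (hinjEB : Function.Injective (algebraMap E B))
    (π : Fin r → B) (hπ : ∀ i, Prime (π i)) (TE : Fin r → E) (hTE : ∀ i, algebraMap E B (TE i) = π i)
    {e : Fin r → ℕ} (he : ∀ i, π i ^ e i = algebraMap A B (f i))
    {K : Type u} [CommRing K] [IsDomain K] [Algebra A K] (j : B →ₐ[A] K) (hj : Function.Injective j)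
    (hint : j.toRingHom.IsIntegral) (T : Fin r → K) {n : Fin r → ℕ} (hn : ∀ i, 1 ≤ n i) (hu : ∀ i, IsUnit (n i : A))
    (hT : ∀ i, T i ^ n i = algebraMap A K (f i)) (hTp : ∀ i, (Ideal.span {T i}).IsPrime)
    (hgen : Algebra.adjoin A (Set.range T) = ⊤) : Function.Bijective (algebraMap E B) := by
  have : Module.Finite E B := Module.Finite.of_restrictScalars_finite A E B
  have := CAlg6.isIntegrallyClosed_of_regular B
  have := RegUFD52.ufm_of_regular B
  have hπn : ∀ i, π i ∈ Ideal.span {π i} := fun i => Ideal.mem_span_singleton_self _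
  have hcomapT : ∀ i, (Ideal.span {T i}).comap j.toRingHom = Ideal.span {π i} := by
    intro i
    have := hTp i
    refine le_antisymm (fun x hx => ?_) ((Ideal.span_singleton_le_iff_mem _).mpr ?_)
    · obtain ⟨c, hc⟩ := Ideal.mem_span_singleton'.mp (Ideal.mem_comap.mp hx)
      let L := FractionRing B
      let M := FractionRing K
      have hjM : Function.Injective ((algebraMap K M).comp j.toRingHom) := (IsFractionRing.injective K M).comp hj
      let j' : L →+* M := IsFractionRing.lift hjM
      have hj' : ∀ c, j' (algebraMap B L c) = algebraMap K M (j c) := IsFractionRing.lift_algebraMap hjM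
      have hb0 : algebraMap A B (f i) ≠ 0 := by rw [← he]; exact pow_ne_zero _ (hπ i).ne_zero
      let y : L := algebraMap B L (x ^ n i) / algebraMap B L (algebraMap A B (f i))
      have hy : j' y = algebraMap K M (c ^ n i) := by
        rw [map_div₀, hj', hj', map_pow j, ← show c * T i = j x from hc, j.commutes, ← hT, mul_pow, map_mul,
          mul_div_cancel_right₀]
        refine (map_ne_zero_iff _ (IsFractionRing.injective K M)).mpr ?_
        rw [hT, ← j.commutes]
        exact (map_ne_zero_iff _ hj).mpr hb0
      have hyint : IsIntegral B y := by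
        obtain ⟨P, hP, hPu⟩ := hint (c ^ n i)
        refine ⟨P, hP, j'.injective ?_⟩
        rw [map_zero, Polynomial.hom_eval₂, hy,
          show j'.comp (algebraMap B L) = (algebraMap K M).comp j.toRingHom from RingHom.ext hj',
          ← Polynomial.hom_eval₂, hPu, map_zero]
      obtain ⟨w, hw⟩ := IsIntegrallyClosed.isIntegral_iff.mp hyint
      have hdvd : algebraMap A B (f i) ∣ x ^ n i := ⟨w, IsFractionRing.injective B L (by
        rw [map_mul, hw, mul_div_cancel₀ _ ((map_ne_zero_iff _ (IsFractionRing.injective B L)).mpr hb0)])⟩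
      have hei : e i ≠ 0 := fun h0 => by
        have h1 := he i
        rw [h0, pow_zero] at h1
        have h2 : IsUnit (algebraMap A K (f i)) := by rw [← j.commutes, ← h1, map_one]; exact isUnit_one
        rw [← hT, isUnit_pow_iff (by have := hn i; omega)] at h2
        exact (hTp i).ne_top (Ideal.span_singleton_eq_top.mpr h2)
      exact Ideal.mem_span_singleton.mpr ((hπ i).dvd_of_dvd_pow
        ((dvd_pow_self (π i) hei).trans (he i ▸ hdvd)))
    · show j (π i) ∈ (Ideal.span {T i} : Ideal K)
      refine (hTp i).mem_of_pow_mem (e i) ?_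
      rw [← map_pow, he, j.commutes, ← hT]
      exact Ideal.pow_mem_of_mem _ (Ideal.mem_span_singleton_self _) _ (hn i)
  have hfA : ∀ i, Ideal.span {f i} = (Ideal.span {T i}).comap (algebraMap A K) := fun i => by
    have := hTp i
    refine le_antisymm ((Ideal.span_singleton_le_iff_mem _).mpr ?_) fun x hx => ?_
    · rw [Ideal.mem_comap, ← hT]
      exact Ideal.pow_mem_of_mem _ (Ideal.mem_span_singleton_self _) _ (hn i)
    · obtain ⟨c, hc⟩ := Ideal.mem_span_singleton'.mp (Ideal.mem_comap.mp hx)
      have h1 : algebraMap A K (x ^ n i) = c ^ n i * algebraMap A K (f i) := by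
        rw [map_pow, ← hc, mul_pow, hT]
      have hinjK : Function.Injective (algebraMap A K) := by
        rw [← j.comp_algebraMap]
        exact hj.comp ((IsScalarTower.algebraMap_eq A E B).symm ▸ hinjEB.comp hinjE)
      -- `c ^ n` lies in the fraction field of the base
      let L := FractionRing A
      let M := FractionRing K
      have hiM : Function.Injective ((algebraMap K M).comp (algebraMap A K)) :=
        (IsFractionRing.injective K M).comp hinjK
      let i' : L →+* M := IsFractionRing.lift hiM
      have hi' : ∀ c, i' (algebraMap A L c) = algebraMap K M (algebraMap A K c) := IsFractionRing.lift_algebraMap hiM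
      have hf0 : f i ≠ 0 := hf.ne_zero i
      let y : L := algebraMap A L (x ^ n i) / algebraMap A L (f i)
      have hy : i' y = algebraMap K M (c ^ n i) := by
        rw [map_div₀, hi', hi', h1, map_mul, mul_div_cancel_right₀]
        exact (map_ne_zero_iff _ hiM).mpr hf0
      have hyint : IsIntegral A y := by
        have hAK : (algebraMap A K).IsIntegral := by
          rw [← j.comp_algebraMap]
          exact (RingHom.Finite.to_isIntegral (RingHom.finite_algebraMap.mpr inferInstance)).trans _ _ hint
        obtain ⟨P, hP, hPu⟩ := hAK (c ^ n i)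
        refine ⟨P, hP, i'.injective ?_⟩
        rw [map_zero, Polynomial.hom_eval₂, hy,
          show i'.comp (algebraMap A L) = (algebraMap K M).comp (algebraMap A K) from RingHom.ext hi',
          ← Polynomial.hom_eval₂, hPu, map_zero]
      have := CAlg6.isIntegrallyClosed_of_regular A
      obtain ⟨w, hw⟩ := IsIntegrallyClosed.isIntegral_iff.mp hyint
      refine ‹∀ i, (Ideal.span {f i}).IsPrime› i |>.mem_of_pow_mem (n i) (Ideal.mem_span_singleton.mpr ⟨w, ?_⟩)
      apply IsFractionRing.injective A L
      rw [map_mul, hw, mul_div_cancel₀ _ ((map_ne_zero_iff _ (IsFractionRing.injective A L)).mpr hf0)]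
  have hgood : ∀ (Q : Ideal B) (_ : Q.IsPrime), algebraMap A B (∏ i, f i) ∉ Q → Algebra.IsUnramifiedAt E Q := by
    intro Q hQp hFQ
    let BT := AF ⊗[A] B
    let ir : B →ₐ[A] BT := Algebra.TensorProduct.includeRight
    let BQ := Localization.AtPrime Q
    let aF : AF →ₐ[A] BQ := IsLocalization.liftAlgHom (M := Submonoid.powers (∏ i, f i)) (f := Algebra.ofId A BQ)
      (fun y => by
        obtain ⟨_, N, rfl⟩ := y
        show IsUnit (algebraMap A BQ _)
        rw [IsScalarTower.algebraMap_apply A B BQ, map_pow]
        exact IsLocalization.map_units BQ (⟨_, fun h => hFQ (hQp.mem_of_pow_mem N h)⟩ : Q.primeCompl))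
    let ψ : BT →ₐ[A] BQ := Algebra.TensorProduct.lift aF (IsScalarTower.toAlgHom A B BQ) fun _ _ => .all _ _
    let _ : Algebra B BT := ir.toRingHom.toAlgebra
    let _ : Algebra BT BQ := ψ.toRingHom.toAlgebra
    have : IsScalarTower A BT BQ := IsScalarTower.of_algebraMap_eq fun a => (ψ.commutes a).symm
    have : IsScalarTower B BT BQ := IsScalarTower.of_algebraMap_eq fun b => by
      show algebraMap B BQ b = ψ ((1 : AF) ⊗ₜ b)
      rw [Algebra.TensorProduct.lift_tmul, map_one, one_mul]
      rfl
    have : Algebra.FormallyUnramified A AF := .of_isLocalization (Submonoid.powers (∏ i, f i))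
    have : Algebra.FormallyUnramified A BT := .comp A AF BT
    have : Algebra.FormallyUnramified B BQ := .of_isLocalization Q.primeCompl
    have : Algebra.FormallyUnramified BT BQ := .of_restrictScalars B BT BQ
    have : Algebra.FormallyUnramified A BQ := .comp A BT BQ
    show Algebra.FormallyUnramified E BQ
    exact .of_restrictScalars A E BQ
  have hunr : ∀ (Q : Ideal B) (_ : Q.IsPrime), Q.height = 1 → Algebra.IsUnramifiedAt E Q := by
    intro Q hQp hQ
    by_cases hFQ : algebraMap A B (∏ i, f i) ∈ Q
    · rw [map_prod] at hFQ
      obtain ⟨i, -, hi⟩ := (hQp.prod_mem_iff).mp hFQ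
      have hπQ : π i ∈ Q := hQp.mem_of_pow_mem (e i) (he i ▸ hi)
      have : (Ideal.span {π i}).IsPrime := (Ideal.span_singleton_prime (hπ i).ne_zero).mpr (hπ i)
      have hQeq : Q = Ideal.span {π i} := by
        by_contra hne
        have hlt : Ideal.span {π i} < Q :=
          lt_of_le_of_ne ((Ideal.span_singleton_le_iff_mem _).mpr hπQ) (Ne.symm hne)
        have h0 : (⊥ : Ideal B) < Ideal.span {π i} :=
          bot_lt_iff_ne_bot.mpr (mt Ideal.span_singleton_eq_bot.mp (hπ i).ne_zero)
        have h1 := Ideal.height_strict_mono_of_isPrime hlt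
        have h2 := Ideal.height_strict_mono_of_isPrime h0
        rw [Ideal.height_bot] at h2
        exact absurd (hQ.le.trans (Order.one_le_iff_pos.mpr h2)) (not_le.mpr h1)
      subst hQeq
      let p := (Ideal.span {π i}).comap (algebraMap E B)
      have : (Ideal.span {π i}).LiesOver p := ⟨rfl⟩
      let _ := Localization.AtPrime.algebraOfLiesOver p (Ideal.span {π i})
      rw [Algebra.isUnramifiedAt_iff_map_eq E p (Ideal.span {π i})]
      refine ⟨?_, le_antisymm ?_ ?_⟩
      · have := hTp i
        have hpA : Ideal.span {f i} = p.comap (algebraMap A E) := by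
          rw [hfA i, show algebraMap A K = j.toRingHom.comp (algebraMap A B) from (j.comp_algebraMap).symm,
            ← Ideal.comap_comap, hcomapT, IsScalarTower.algebraMap_eq A E B, ← Ideal.comap_comap]
        let a := Ideal.ResidueField.map _ p (algebraMap A E) hpA
        let b : p.ResidueField →+* (Ideal.span {π i}).ResidueField := algebraMap _ _
        let c := Ideal.ResidueField.map _ _ j.toRingHom (hcomapT i).symm
        have hb : ∀ x, b (algebraMap E _ x) = algebraMap B _ (algebraMap E B x) := fun x => by
          show algebraMap p.ResidueField (Ideal.span {π i}).ResidueField (algebraMap E _ x) = _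
          rw [← IsScalarTower.algebraMap_apply E p.ResidueField (Ideal.span {π i}).ResidueField,
            ← IsScalarTower.algebraMap_apply E B (Ideal.span {π i}).ResidueField]
        have hcomp : c.comp (b.comp a) = Ideal.ResidueField.map _ _ (algebraMap A K) (hfA i) := by
          refine Ideal.ResidueField.ringHom_ext (RingHom.ext fun x => ?_)
          show c (b (a (algebraMap A _ x))) = Ideal.ResidueField.map _ _ (algebraMap A K) (hfA i) (algebraMap A _ x)
          rw [Ideal.ResidueField.map_algebraMap, hb, Ideal.ResidueField.map_algebraMap,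
            Ideal.ResidueField.map_algebraMap, ← IsScalarTower.algebraMap_apply A E B]
          exact congrArg _ (j.commutes x)
        have hs : EtRam26.SepHom b :=
          ((hcomp ▸ residue_separable hf hn hu T hT hgen i (hfA i) :
            EtRam26.SepHom (c.comp (b.comp a)))).of_comp.1.of_comp.2
        unfold EtRam26.SepHom at hs
        convert hs using 1
        all_goals first | rfl | exact Algebra.algebra_ext _ _ fun _ => rfl
      · rw [← Localization.AtPrime.map_eq_maximalIdeal, IsScalarTower.algebraMap_eq E B, ← Ideal.map_map]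
        exact Ideal.map_mono Ideal.map_comap_le
      · rw [← Localization.AtPrime.map_eq_maximalIdeal, Ideal.map_span, Set.image_singleton,
          Ideal.span_singleton_le_iff_mem]
        have hm := Ideal.mem_map_of_mem (algebraMap E (Localization.AtPrime (Ideal.span {π i})))
          (show TE i ∈ p from Ideal.mem_comap.mpr ((hTE i).symm ▸ hπn i))
        exact (IsScalarTower.algebraMap_apply E B (Localization.AtPrime (Ideal.span {π i})) (TE i)).trans
          (congrArg _ (hTE i)) ▸ hm
    · exact hgood Q hQp hFQ
  have het : Algebra.Etale E B := by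
    by_cases hfield : IsField E
    · let _ := hfield.toField
      have : Algebra.FinitePresentation E B := Algebra.FinitePresentation.of_finiteType.mp inferInstance
      have : IsField B := isField_of_isIntegral_of_isField' hfield
      let _ := this.toField
      have hF : algebraMap A B (∏ i, f i) ≠ 0 := by
        rw [map_ne_zero_iff _ ((IsScalarTower.algebraMap_eq A E B).symm ▸ hinjEB.comp hinjE)]
        exact Finset.prod_ne_zero_iff.mpr fun i _ => hf.ne_zero i
      have : Algebra.FormallyUnramified E B := by
        rw [Algebra.formallyUnramified_iff_forall]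
        intro Q
        refine hgood _ Q.isPrime fun hQ => ?_
        rw [(Ideal.eq_bot_or_top Q.asIdeal).resolve_right Q.isPrime.ne_top, Submodule.mem_bot] at hQ
        exact hF hQ
      exact Algebra.Etale.of_formallyUnramified_of_flat
    · refine Pure83.etale_of_regular_codim_one ?_ hinjEB hunr
      have hne : maximalIdeal E ≠ ⊥ := fun h => hfield (IsLocalRing.isField_iff_maximalIdeal_eq.mpr h)
      rw [← IsLocalRing.maximalIdeal_height_eq_ringKrullDim]
      refine WithBot.coe_le_coe.mpr (Order.one_le_iff_pos.mpr ?_)
      have := Ideal.height_strict_mono_of_isPrime (bot_lt_iff_ne_bot.mpr hne)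
      rwa [Ideal.height_bot] at this
  obtain ⟨s⟩ : Nonempty (B →ₐ[E] E) := by
    obtain ⟨ι, _, ⟨eC⟩⟩ := SplitEtale84.exists_algEquiv_pi E B
    rcases isEmpty_or_nonempty ι with hι | ⟨⟨i⟩⟩
    · exact absurd (eC.injective (Subsingleton.elim (eC 0) (eC 1))) zero_ne_one
    · exact ⟨(Pi.evalAlgHom E (fun _ => E) i).comp eC.toAlgHom⟩
  refine ⟨hinjEB, fun b => ⟨s b, ?_⟩⟩
  have : Function.Injective s := by
    show Function.Injective s.toRingHom
    rw [RingHom.injective_iff_ker_eq_bot]
    have : (RingHom.ker s.toRingHom).IsPrime := RingHom.ker_isPrime _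
    refine Ideal.eq_bot_of_comap_eq_bot (R := E) ?_
    rw [RingHom.comap_ker, show s.toRingHom.comp (algebraMap E B) = algebraMap E E from RingHom.ext s.commutes,
      ← RingHom.injective_iff_ker_eq_bot]
    exact fun x y h => h
  refine this ?_
  rw [s.commutes]
  rfl

end Groth.Agent.Abh84
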