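import Groth.Agent.Abh84.KummerIso

/-!
# Regular tame covers of strictly henselian regular rings are Kummer coverings: assembly
-/

set_option autoImplicit false
universe u

open IsLocalRing TensorProduct

namespace Groth.Agent.Abh84

open Groth.Agent.KummerAlg84

theorem adjoin_range_T {A : Type u} [CommRing A] {r : ℕ} (f : Fin r → A) (n : Fin r → ℕ) :
    Algebra.adjoin A (Set.range (T f n)) = ⊤ := by
  rw [eq_top_iff]
  rintro x -
  obtain ⟨p, rfl⟩ := Ideal.Quotient.mk_surjective x
  induction p using MvPolynomial.induction_on with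
  | C c => exact Subalgebra.algebraMap_mem _ c
  | add a b ha hb => rw [map_add]; exact add_mem ha hb
  | mul_X a i ha => rw [map_mul]; exact mul_mem ha (Algebra.subset_adjoin ⟨i, rfl⟩)

theorem injective_of_integral_domain {A E B : Type u} [CommRing A] [IsDomain A] [CommRing E] [IsDomain E]
    [CommRing B] [IsDomain B] [Algebra A E] [Algebra A B] [Algebra.IsIntegral A E] (φ : E →+* B)
    (hφ : ∀ a, φ (algebraMap A E a) = algebraMap A B a) (hinj : Function.Injective (algebraMap A B)) :
    Function.Injective φ := by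
  rw [RingHom.injective_iff_ker_eq_bot]
  have : (RingHom.ker φ).IsPrime := RingHom.ker_isPrime φ
  refine Ideal.eq_bot_of_comap_eq_bot (R := A) ?_
  rw [RingHom.comap_ker, show φ.comp (algebraMap A E) = algebraMap A B from RingHom.ext hφ,
    ← RingHom.injective_iff_ker_eq_bot]
  exact hinj

/-- Regular tame covers of strictly henselian regular local rings are Kummer. -/
theorem exists_kummer_iso {A : Type u} [CommRing A] [IsRegularLocalRing A] [IsDomain A] [HenselianLocalRing A]
    [IsSepClosed (ResidueField A)] {r : ℕ} {f : Fin r → A} [∀ i, (Ideal.span {f i}).IsPrime] (hf : IsParams f)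
    (B : Type u) [CommRing B] [IsDomain B] [Algebra A B] [Module.Finite A B] [Module.Free A B]
    (hreg : ∀ (q : Ideal B) [q.IsPrime], IsRegularLocalRing (Localization.AtPrime q))
    (AF : Type u) [CommRing AF] [Algebra A AF] [IsLocalization.Away (∏ i, f i) AF]
    [Algebra.Etale AF (AF ⊗[A] B)] (htame : SGA1.IsTameAlong f (algebraMap A B)) :
    ∃ e : Fin r → ℕ, (∀ i, 1 ≤ e i) ∧ (∀ i, IsUnit (e i : A)) ∧
      Nonempty (B ≃ₐ[A] MvPolynomial (Fin r) A ⧸ ker f e) := by
  have hinj : Function.Injective (algebraMap A B) := FaithfulSMul.algebraMap_injective A B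
  obtain ⟨n, hn, hu, hdiv⟩ := exists_unit_exponents (f := f) AF (AF ⊗[A] B) hf (tame_tensor AF B hf hinj htame)
  obtain ⟨hK, hparT⟩ := isParams_T hf hn
  have : IsDomain (MvPolynomial (Fin r) A ⧸ ker f n) := CAlg1.isDomain_regular _
  obtain ⟨hH, hS⟩ := strictlyHenselian_kummer hf hn
  have := KummerAlg84.finite (a := f) hn
  have hinjK : Function.Injective (algebraMap A (MvPolynomial (Fin r) A ⧸ ker f n)) := injective_algebraMap hn
  have hFK : algebraMap A (MvPolynomial (Fin r) A ⧸ ker f n) (∏ i, f i) ≠ 0 := (map_ne_zero_iff _ hinjK).mpr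
    (Finset.prod_ne_zero_iff.mpr fun i _ => hf.ne_zero i)
  let S := FractionRing (MvPolynomial (Fin r) A ⧸ ker f n)
  let aS : AF →+* S := IsLocalization.Away.lift (∏ i, f i) (g := (algebraMap (MvPolynomial (Fin r) A ⧸ ker f n) S).comp (algebraMap A (MvPolynomial (Fin r) A ⧸ ker f n)))
    (IsUnit.mk0 _ ((map_ne_zero_iff _ (IsFractionRing.injective (MvPolynomial (Fin r) A ⧸ ker f n) S)).mpr hFK))
  let : Algebra AF S := aS.toAlgebra
  obtain ⟨j, hj⟩ := exists_embedding_abstract AF B hf hn (fun i => (hu i).ne_zero) hdiv hinjK (T f n) (T_pow f n) S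
    (fun a => IsLocalization.Away.lift_eq (∏ i, f i) _ a)
  have hint : j.toRingHom.IsIntegral := RingHom.IsIntegral.tower_top (algebraMap A B) j.toRingHom (by
    rw [show j.toRingHom.comp (algebraMap A B) = algebraMap A _ from RingHom.ext j.commutes]
    exact algebraMap_isIntegral_iff.mpr (KummerAlg84.isIntegral hn))
  have hjloc : IsLocalHom j.toRingHom := hint.isLocalHom hj
  have : IsLocalRing B := IsLocalRing.of_nonunits_add fun a b ha hb hab =>
    IsLocalRing.nonunits_add (a := j a) (b := j b)
      (fun h => ha (isUnit_of_map_unit j.toRingHom a h)) (fun h => hb (isUnit_of_map_unit j.toRingHom b h))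
      (by rw [← map_add]; exact hab.map j)
  have hmax : IsRegularLocalRing (Localization.AtPrime (maximalIdeal B)) := hreg _
  have : IsRegularLocalRing B := by
    have hunits : ∀ x ∈ (maximalIdeal B).primeCompl, IsUnit x := fun x hx => IsLocalRing.notMem_maximalIdeal.mp hx
    exact IsRegularLocalRing.of_ringEquiv (IsLocalization.atUnits B (maximalIdeal B).primeCompl
      (S := Localization.AtPrime (maximalIdeal B)) hunits).toRingEquiv.symm
  have : Algebra.IsIntegral A B := Algebra.IsIntegral.of_finite A B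
  have : IsLocalHom (algebraMap A B) := (algebraMap_isIntegral_iff.mpr this).isLocalHom hinj
  obtain ⟨hBH, hBS⟩ := S14620.result (algebraMap A B) (RingHom.finite_algebraMap.mpr inferInstance)
    ⟨inferInstance, inferInstance⟩
  have := CAlg6.isIntegrallyClosed_of_regular B
  have := RegUFD52.ufm_of_regular B
  have hTp : ∀ i, (Ideal.span {T f n i}).IsPrime := fun i => hparT.isPrime i
  have hroot : ∀ i, ∃ (e : ℕ) (π : B), 1 ≤ e ∧ IsUnit (e : B) ∧ Prime π ∧ π ^ e = algebraMap A B (f i) := fun i =>
    exists_root_of_prime_pow j.toRingHom hj hint ((Ideal.span_singleton_prime (hparT.ne_zero i)).mp (hTp i)) (hn i)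
      (by rw [← map_natCast (algebraMap A B)]; exact (hu i).map _)
      ((j.commutes (f i)).trans (T_pow f n i).symm)
  choose e π he heu hπ hπe using hroot
  have heA : ∀ i, IsUnit (e i : A) := fun i => by
    refine isUnit_of_map_unit (algebraMap A B) _ ?_
    rw [map_natCast]
    exact heu i
  refine ⟨e, he, heA, ?_⟩
  obtain ⟨hE, -⟩ := isParams_T hf he
  have : IsDomain (MvPolynomial (Fin r) A ⧸ ker f e) := CAlg1.isDomain_regular _
  obtain ⟨hEH, hES⟩ := strictlyHenselian_kummer hf he
  have := KummerAlg84.finite (a := f) he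
  have := KummerAlg84.isIntegral (a := f) he
  let ψ : (MvPolynomial (Fin r) A ⧸ ker f e) →+* B := rootHom f e (algebraMap A B) π hπe
  have hψ : ∀ a, ψ (algebraMap A _ a) = algebraMap A B a := fun a => rootHom_algebraMap f e _ _ _ a
  let : Algebra (MvPolynomial (Fin r) A ⧸ ker f e) B := ψ.toAlgebra
  have : IsScalarTower A (MvPolynomial (Fin r) A ⧸ ker f e) B :=
    IsScalarTower.of_algebraMap_eq (R := A) (S := MvPolynomial (Fin r) A ⧸ ker f e) (A := B) fun a => (hψ a).symm
  have hbij := bijective_of_roots AF hf B (injective_algebraMap he) (injective_of_integral_domain ψ hψ hinj) π hπ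
    (T f e) (fun i => rootHom_T f e _ _ _ i) hπe j hj hint (T f n) hn hu (T_pow f n) hTp (adjoin_range_T f n)
  exact ⟨(AlgEquiv.ofBijective (IsScalarTower.toAlgHom A (MvPolynomial (Fin r) A ⧸ ker f e) B) hbij).symm⟩

end Groth.Agent.Abh84
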