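import Groth.Agent.Sga84.KummerAlg
import Groth.Agent.CAlg6.RegularNormal

/-!
# Kummer algebras of part of a regular system of parameters: the parameters `T_i`
-/

set_option autoImplicit false
universe u

open IsLocalRing

namespace Groth.Agent.Abh84

open Groth.Agent.KummerAlg84

variable {A : Type u} [CommRing A] {r : ℕ}

/-- `f` is part of a regular system of parameters. -/
structure IsParams [IsLocalRing A] (f : Fin r → A) : Prop where
  mem : ∀ i, f i ∈ maximalIdeal A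
  li : LinearIndependent (ResidueField A) (fun i => (maximalIdeal A).toCotangent ⟨f i, mem i⟩)

theorem IsParams.notMem_sq [IsLocalRing A] {f : Fin r → A} (hf : IsParams f) (i : Fin r) :
    f i ∉ maximalIdeal A ^ 2 := fun h =>
  hf.li.ne_zero i ((Ideal.toCotangent_eq_zero _ _).mpr h)

theorem IsParams.ne_zero [IsLocalRing A] {f : Fin r → A} (hf : IsParams f) (i : Fin r) : f i ≠ 0 :=
  fun h => hf.notMem_sq i (h ▸ Submodule.zero_mem _)

theorem IsParams.isPrime [IsRegularLocalRing A] {f : Fin r → A} (hf : IsParams f) (i : Fin r) :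
    (Ideal.span {f i}).IsPrime := by
  let x : Fin 1 → maximalIdeal A := fun _ => ⟨f i, hf.mem i⟩
  have hx : LinearIndependent (ResidueField A) (fun j => (maximalIdeal A).toCotangent (x j)) :=
    (hf.li.comp (fun _ : Fin 1 => i) (fun a b _ => Subsingleton.elim a b))
  obtain ⟨h1, h2⟩ := EGA4Alg4.regular_params_iff x
  obtain ⟨hd, hr⟩ := h1.mp ⟨inferInstance, hx⟩
  have := h2 hr hd
  rwa [show (Set.range fun j : Fin 1 => ((x j : A))) = {f i} from by ext; simp [x]] at this

theorem IsParams.isPrime_span [IsRegularLocalRing A] {f : Fin r → A} (hf : IsParams f) :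
    (Ideal.span (Set.range f)).IsPrime := by
  obtain ⟨h1, h2⟩ := EGA4Alg4.regular_params_iff (fun i => (⟨f i, hf.mem i⟩ : maximalIdeal A))
  obtain ⟨hd, hr⟩ := h1.mp ⟨inferInstance, hf.li⟩
  exact h2 hr hd

variable [IsRegularLocalRing A] {f : Fin r → A} {n : Fin r → ℕ}

/-- The quotient of the Kummer algebra by all `T_i`. -/
theorem exists_quotEquiv (hn : ∀ i, 1 ≤ n i) :
    Nonempty ((A ⧸ Ideal.span (Set.range f)) ≃+*
      ((MvPolynomial (Fin r) A ⧸ ker f n) ⧸ Ideal.span (Set.range (T f n)))) := by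
  let I := Ideal.span (Set.range f)
  let J := Ideal.span (Set.range (T f n))
  let φ : (A ⧸ I) →+* ((MvPolynomial (Fin r) A ⧸ ker f n) ⧸ J) :=
    Ideal.Quotient.lift I ((Ideal.Quotient.mk J).comp (algebraMap A _)) (fun x hx => by
      refine RingHom.mem_ker.mp (Ideal.span_le.mpr ?_ hx)
      rintro _ ⟨i, rfl⟩
      show Ideal.Quotient.mk J (algebraMap A _ (f i)) = 0
      rw [← T_pow, Ideal.Quotient.eq_zero_iff_mem]
      exact Ideal.pow_mem_of_mem _ (Ideal.subset_span (Set.mem_range_self i)) _ (hn i))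
  let ψ₀ : (MvPolynomial (Fin r) A ⧸ ker f n) →+* A ⧸ I :=
    Ideal.Quotient.lift _ (MvPolynomial.eval₂Hom (Ideal.Quotient.mk I) 0) (fun x hx => by
      refine RingHom.mem_ker.mp (Ideal.span_le.mpr ?_ hx)
      rintro _ ⟨i, rfl⟩
      simp only [SetLike.mem_coe, RingHom.mem_ker, map_sub, map_pow, MvPolynomial.eval₂Hom_X',
        MvPolynomial.eval₂Hom_C, Pi.zero_apply, zero_pow (Nat.one_le_iff_ne_zero.mp (hn i)), zero_sub, neg_eq_zero]
      exact Ideal.Quotient.eq_zero_iff_mem.mpr (Ideal.subset_span (Set.mem_range_self i)))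
  let ψ : ((MvPolynomial (Fin r) A ⧸ ker f n) ⧸ J) →+* A ⧸ I :=
    Ideal.Quotient.lift J ψ₀ (fun x hx => by
      refine RingHom.mem_ker.mp (Ideal.span_le.mpr ?_ hx)
      rintro _ ⟨i, rfl⟩
      show MvPolynomial.eval₂Hom (Ideal.Quotient.mk I) 0 (MvPolynomial.X i) = 0
      rw [MvPolynomial.eval₂Hom_X']
      rfl)
  refine ⟨RingEquiv.ofRingHom φ ψ ?_ ?_⟩
  · refine Ideal.Quotient.ringHom_ext (Ideal.Quotient.ringHom_ext ?_)
    refine MvPolynomial.ringHom_ext (fun c => ?_) (fun i => ?_)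
    · show φ (MvPolynomial.eval₂Hom (Ideal.Quotient.mk I) 0 (MvPolynomial.C c)) = _
      rw [MvPolynomial.eval₂Hom_C]
      rfl
    · show φ (MvPolynomial.eval₂Hom (Ideal.Quotient.mk I) 0 (MvPolynomial.X i)) = _
      rw [MvPolynomial.eval₂Hom_X', Pi.zero_apply, map_zero]
      exact (Ideal.Quotient.eq_zero_iff_mem.mpr (Ideal.subset_span (Set.mem_range_self i))).symm
  · refine Ideal.Quotient.ringHom_ext (RingHom.ext fun c => ?_)
    show MvPolynomial.eval₂Hom (Ideal.Quotient.mk I) 0 (MvPolynomial.C c) = _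
    rw [MvPolynomial.eval₂Hom_C]
    rfl

/-- The `T_i` are part of a regular system of parameters. -/
theorem isParams_T (hf : IsParams f) (hn : ∀ i, 1 ≤ n i) :
    ∃ (_ : IsRegularLocalRing (MvPolynomial (Fin r) A ⧸ ker f n)), IsParams (T f n) := by
  have := CAlg1.isDomain_regular A
  have hK := KummerAlg84.isRegularLocalRing f hf.mem hf.li hn
  obtain ⟨hloc, hmax⟩ := isLocalRing_and_maximalIdeal hn hf.mem
  have hT : ∀ i, T f n i ∈ maximalIdeal (MvPolynomial (Fin r) A ⧸ ker f n) := fun i => by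
    rw [mem_maximalIdeal]
    intro hu
    have h2 := hu.pow (n i)
    rw [T_pow] at h2
    have := KummerAlg84.isIntegral (a := f) hn
    exact (IsLocalRing.mem_maximalIdeal _).mp (hf.mem i)
      (((algebraMap_isIntegral_iff.mpr this).isLocalHom (injective_algebraMap hn)).map_nonunit _ h2)
  refine ⟨hK, hT, ?_⟩
  obtain ⟨h1, -⟩ := EGA4Alg4.regular_params_iff (fun i => (⟨f i, hf.mem i⟩ : maximalIdeal A))
  obtain ⟨hdim, hreg⟩ := h1.mp ⟨inferInstance, hf.li⟩
  obtain ⟨e⟩ := exists_quotEquiv (f := f) hn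
  obtain ⟨h3, -⟩ := EGA4Alg4.regular_params_iff
    (fun i => (⟨T f n i, hT i⟩ : maximalIdeal (MvPolynomial (Fin r) A ⧸ ker f n)))
  have := KummerAlg84.isIntegral (a := f) hn
  have : IsRegularLocalRing (A ⧸ Ideal.span (Set.range f)) := hreg
  refine (h3.mpr ⟨?_, IsRegularLocalRing.of_ringEquiv e⟩).2
  rw [EGA4Alg4.ringKrullDim_eq_of_integral A _ (injective_algebraMap hn), ← hdim]
  exact congrArg (· + (r : WithBot ℕ∞)) (ringKrullDim_eq_of_ringEquiv e.symm)

/-- A prime of height one over `(f_i)` is `(T_i)`. -/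
theorem eq_span_T (hf : IsParams f) (hn : ∀ i, 1 ≤ n i)
    (P : Ideal (MvPolynomial (Fin r) A ⧸ ker f n)) [P.IsPrime] (hP : P.height ≤ 1) (i : Fin r)
    (hi : algebraMap A _ (f i) ∈ P) : P = Ideal.span {T f n i} := by
  obtain ⟨hK, hT⟩ := isParams_T hf hn
  have := hT.isPrime i
  have hle : Ideal.span {T f n i} ≤ P := by
    rw [Ideal.span_singleton_le_iff_mem]
    exact ‹P.IsPrime›.mem_of_pow_mem (n i) (T_pow f n i ▸ hi)
  have := CAlg1.isDomain_regular (MvPolynomial (Fin r) A ⧸ ker f n)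
  by_contra hne
  have hlt : Ideal.span {T f n i} < P := lt_of_le_of_ne hle (Ne.symm hne)
  have h0 : (⊥ : Ideal (MvPolynomial (Fin r) A ⧸ ker f n)) < Ideal.span {T f n i} :=
    bot_lt_iff_ne_bot.mpr (mt Ideal.span_singleton_eq_bot.mp (hT.ne_zero i))
  have h1 := Ideal.height_strict_mono_of_isPrime hlt
  have h2 := Ideal.height_strict_mono_of_isPrime h0
  rw [Ideal.height_bot] at h2
  exact absurd (hP.trans (Order.one_le_iff_pos.mpr h2)) (not_le.mpr h1)

/-- `T_i` is not a power in the fraction field. -/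
theorem T_ne_pow (hf : IsParams f) (hn : ∀ i, 1 ≤ n i) (i : Fin r) {L : Type u} [Field L]
    (ψ : (MvPolynomial (Fin r) A ⧸ ker f n) →+* L) (hψ : Function.Injective ψ) {p : ℕ} (hp : 2 ≤ p)
    (a b : MvPolynomial (Fin r) A ⧸ ker f n) (hb : ψ b ≠ 0) :
    (ψ a / ψ b) ^ p ≠ ψ (T f n i) := by
  intro h
  obtain ⟨hK, hT⟩ := isParams_T hf hn
  have := CAlg1.isDomain_regular (MvPolynomial (Fin r) A ⧸ ker f n)
  have := CAlg6.isIntegrallyClosed_of_regular (MvPolynomial (Fin r) A ⧸ ker f n)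
  have hb0 : b ≠ 0 := fun h0 => hb (by rw [h0, map_zero])
  have h' : a ^ p = b ^ p * T f n i := by
    apply hψ
    rw [map_pow, map_mul, map_pow, ← h, div_pow, mul_div_cancel₀ _ (pow_ne_zero _ hb)]
  obtain ⟨c, rfl⟩ : b ∣ a := by
    rw [← IsIntegrallyClosed.pow_dvd_pow_iff (show p ≠ 0 by omega)]
    exact ⟨_, h'⟩
  have hc : c ^ p = T f n i := mul_left_cancel₀ (pow_ne_zero p hb0) (by rw [← mul_pow, h'])
  refine hT.notMem_sq i (hc ▸ Ideal.pow_le_pow_right hp (Ideal.pow_mem_pow ?_ p))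
  by_contra hu
  exact (mem_maximalIdeal _).mp (hT.mem i) (hc ▸ (IsLocalRing.notMem_maximalIdeal.mp hu).pow p)

end Groth.Agent.Abh84
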